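import Cfsg.Agent.Lib.Bender.Good
import Cfsg.Agent.Lib.Coprime.UniqueOrderP

/-!
# Strongly embedded subgroups when no two involutions commute
-/

set_option autoImplicit false
set_option linter.style.haveILetI false

namespace CfsgLib.Bender

open Subgroup
open CfsgLib.Invol (invol_conj invol_inv)

universe u

variable {G : Type u} [Group G] [Finite G]

theorem lonely_top_of_not_pair (h : ¬ HasPair G) : Lonely (⊤ : Subgroup G) :=
  fun v _ w _ hv hw hc => by_contra fun hne => h ⟨v, w, hv, hw, hne, hc⟩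

theorem sylow_shape_of_not_pair (h : ¬ HasPair G) (S : Sylow 2 G) :
    IsCyclic S ∨ ∃ m : ℕ, 1 ≤ m ∧ Nonempty ((S : Subgroup G) ≃* QuaternionGroup (2 ^ m)) := by
  have h2 : ∀ x : G, x ^ 2 = 1 → x ≠ 1 → orderOf x = 2 := fun x hx h1 => orderOf_eq_prime hx h1
  haveI : Fact (Nat.Prime 2) := ⟨Nat.prime_two⟩
  -- the involution in the centre of `S` is the only one
  have huniq : ∀ x y : (S : Subgroup G), x ^ 2 = 1 → y ^ 2 = 1 → x ≠ 1 → y ≠ 1 → x = y := by
    intro x y hx hy hx1 hy1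
    have hnt : Nontrivial (S : Subgroup G) := ⟨⟨x, 1, hx1⟩⟩
    haveI := S.isPGroup'.center_nontrivial
    obtain ⟨k, hk⟩ := IsPGroup.iff_card.1 (S.isPGroup'.to_subgroup (center (S : Subgroup G)))
    have hk0 : k ≠ 0 := fun e => by
      rw [e, pow_zero] at hk
      exact absurd (Finite.one_lt_card (α := center (S : Subgroup G))) (by omega)
    obtain ⟨z, hzc, hz⟩ := CfsgLib.Invol.exists_invol_mem (H := center (S : Subgroup G))
      (by rw [hk]; exact Nat.even_pow.2 ⟨even_two, hk0⟩)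
    have key : ∀ w : (S : Subgroup G), w ^ 2 = 1 → w ≠ 1 → w = z := fun w hw hw1 =>
      Subtype.ext <| lonely_top_of_not_pair h w.1 (mem_top _) z.1 (mem_top _)
        (h2 _ (by rw [← SubgroupClass.coe_pow, hw]; rfl) fun e => hw1 (Subtype.ext e))
        (by rwa [Subgroup.orderOf_coe]) (congrArg Subtype.val (mem_center_iff.1 hzc w))
    rw [key x hx hx1, key y hy hy1]
  have hu : CfsgLib.Coprime.UniqueOrderP 2 (S : Subgroup G) := fun x y hx hy hx1 => by
    by_cases hy1 : y = 1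
    · exact ⟨0, by simp [hy1]⟩
    · exact ⟨1, by rw [huniq x y hx hy hx1 hy1]; simp⟩
  rcases CfsgLib.Coprime.cyclic_or_quaternion_of_unique_two S.isPGroup' hu with hc | ⟨n, ⟨e⟩⟩
  · exact Or.inl hc
  rcases n with _ | n
  · haveI : IsCyclic (QuaternionGroup (2 ^ 0)) := QuaternionGroup.quaternionGroup_one_isCyclic
    exact Or.inl (isCyclic_of_surjective e.symm.toMonoidHom e.symm.surjective)
  · exact Or.inr ⟨n + 1, Nat.le_add_left 1 n, ⟨e⟩⟩

variable {H : Subgroup G}

theorem oddCore_sup_eq_top (hH : Cfsg.IsStronglyEmbedded H) (h : ¬ HasPair G) :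
    Cfsg.oddCore G ⊔ H = ⊤ := by
  obtain ⟨t, htH, ht⟩ := CfsgLib.Invol.exists_invol_mem hH.2.1
  rw [eq_top_iff]
  intro g _
  have hmem : t * (g * t * g⁻¹) ∈ coreOf (⊤ : Subgroup G) :=
    mul_mem_coreOf (lonely_top_of_not_pair h) (mem_top _) (mem_top _) ht (invol_conj ht g)
  have hO : coreOf (⊤ : Subgroup G) ≤ Cfsg.oddCore G :=
    (CfsgLib.Coprime.map_pPrimeCore_equiv (Subgroup.topEquiv (G := G)) 2).le
  obtain ⟨d, hd, hdt⟩ := CfsgLib.Invol.exists_conj_eq_of_odd ht (invol_conj ht g)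
    ((Nat.not_even_iff_odd.1 fun he => (Nat.not_even_iff_odd.2 (odd_coreOf (⊤ : Subgroup G)))
      (even_iff_two_dvd.2 ((even_iff_two_dvd.1 he).trans (orderOf_dvd_natCard _ hmem)))))
  have hdO : d ∈ Cfsg.oddCore G := hO (zpowers_le.2 hmem hd)
  have hdgH : d⁻¹ * g ∈ H := by
    refine CfsgLib.Invol.mem_of_conj_mem hH htH ht ?_
    have : d⁻¹ * g * t * (d⁻¹ * g)⁻¹ = d⁻¹ * (g * t * g⁻¹) * d := by group
    rw [this, ← hdt]
    simpa [mul_assoc] using htH
  rw [← mul_inv_cancel_left d g]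
  exact mul_mem_sup hdO hdgH

end CfsgLib.Bender
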