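import Cfsg.Agent.Lib.Bender.Setup
import Cfsg.Agent.Lib.Invol.NormalizerCriterion
import Cfsg.Agent.Lib.Coprime.BenderPair

/-!
# Bender's transitivity theorem: subgroups with a free involution fix at most two points

`Good r H P u`: the involution `u` normalizes the `r`-group `P`, fixes no fixed point of `P` and has
`P`-orbit of the full `r`-part of the number of involutions of a point stabilizer. If `r` does not
divide `|Ω|`, such a group does not fix three points.
-/

set_option autoImplicit false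
set_option linter.style.haveILetI false

namespace CfsgLib.Bender

open Subgroup MulAction
open CfsgLib.Coprime (IsSylowIn conjBy)
open CfsgLib.Invol (fixed_unique invol_conj invol_smul_smul invol_inv invol_mul_self)

universe u

variable {G : Type u} [Group G] [Finite G]

/-- Commuting involutions of `L` are equal. -/
def Lonely (L : Subgroup G) : Prop :=
  ∀ v ∈ L, ∀ w ∈ L, orderOf v = 2 → orderOf w = 2 → Commute v w → v = w

theorem lonely_of_one {L : Subgroup G} {u : G} (huL : u ∈ L) (hu : orderOf u = 2)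
    (h : ∀ w ∈ L, orderOf w = 2 → Commute u w → w = u) :
    Lonely L ∧ ∀ v ∈ L, orderOf v = 2 → ∃ g ∈ L, g * u * g⁻¹ = v := by
  have hconj : ∀ v ∈ L, orderOf v = 2 → ∃ g ∈ L, g * u * g⁻¹ = v := by
    intro v hvL hv
    by_cases hvu : v = u
    · exact ⟨1, L.one_mem, by simp [hvu]⟩
    have hodd : Odd (orderOf (u * v)) := by
      by_contra hev
      rw [Nat.not_odd_iff_even] at hev
      set z := (u * v) ^ (orderOf (u * v) / 2) with hz
      have hzL : z ∈ L := pow_mem (mul_mem huL hvL) _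
      have hzu : z = u := h z hzL (CfsgLib.Invol.orderOf_pow_half hev)
        (CfsgLib.Invol.commute_pow_half (CfsgLib.Invol.invol_conj_mul hu hv) hev).symm
      refine hvu (h v hvL hv ?_)
      rw [← hzu]
      exact CfsgLib.Invol.commute_pow_half (CfsgLib.Invol.invol_conj_mul' hu hv) hev
    obtain ⟨d, hd, he⟩ := CfsgLib.Invol.exists_conj_eq_of_odd hu hv hodd
    exact ⟨d, zpowers_le.2 (mul_mem huL hvL) hd, he⟩
  refine ⟨fun v hvL w hwL hv hw hc => ?_, hconj⟩
  obtain ⟨g, hg, rfl⟩ := hconj v hvL hv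
  have h2 : g⁻¹ * w * g = u := by
    refine h _ (mul_mem (mul_mem (inv_mem hg) hwL) hg) (by simpa using invol_conj hw g⁻¹) ?_
    calc u * (g⁻¹ * w * g) = g⁻¹ * ((g * u * g⁻¹) * w) * g := by group
      _ = g⁻¹ * (w * (g * u * g⁻¹)) * g := by rw [hc.eq]
      _ = g⁻¹ * w * g * u := by group
  rw [← h2]; group

/-- The odd core of a subgroup. -/
def coreOf (L : Subgroup G) : Subgroup G := (Cfsg.pPrimeCore 2 L).map L.subtype

theorem coreOf_le (L : Subgroup G) : coreOf L ≤ L := map_subtype_le _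

theorem odd_coreOf (L : Subgroup G) : Odd (Nat.card (coreOf L)) := by
  rw [coreOf, card_map_of_injective L.subtype_injective, ← Nat.not_even_iff_odd, even_iff_two_dvd]
  exact CfsgLib.Coprime.pPrimeCore_not_dvd Nat.prime_two

theorem le_normalizer_coreOf (L : Subgroup G) : L ≤ normalizer (coreOf L : Set G) := by
  haveI : (Cfsg.pPrimeCore 2 L).Normal := Subgroup.sSup_normal _ fun _ h => h.1
  exact CfsgLib.Coprime.BenderPair.le_normalizer_map_subtype L _

theorem mul_mem_coreOf {L : Subgroup G} (hL : Lonely L) {v w : G} (hv : v ∈ L) (hw : w ∈ L)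
    (hvo : orderOf v = 2) (hwo : orderOf w = 2) : v * w ∈ coreOf L :=
  ⟨⟨v, hv⟩ * ⟨w, hw⟩, CfsgLib.Invol.SEFixed.mul_mem_oddCore
    (fun a b ha hb hc => Subtype.ext (hL a a.2 b b.2 (by rwa [Subgroup.orderOf_coe])
      (by rwa [Subgroup.orderOf_coe]) (hc.map L.subtype)))
    (v := (⟨v, hv⟩ : L)) (w := ⟨w, hw⟩) (by rwa [← Subgroup.orderOf_coe])
    (by rwa [← Subgroup.orderOf_coe]), rfl⟩

variable {H : Subgroup G}

/-- If all pairs of `F` are interchanged by involutions of `L` without fixed point in `F`, and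
commuting involutions of `L` are equal, then `F` has at most two points. -/
theorem no_three {L : Subgroup G} (hL : Lonely L) {F : Set (G ⧸ H)}
    (hF : ∀ g ∈ L, ∀ a ∈ F, g • a ∈ F)
    (hfree : ∀ v ∈ L, orderOf v = 2 → ∀ a ∈ F, v • a ≠ a)
    (hsw : ∀ a ∈ F, ∀ b ∈ F, a ≠ b → ∃ v ∈ L, orderOf v = 2 ∧ v • a = b)
    {a b c : G ⧸ H} (ha : a ∈ F) (hb : b ∈ F) (hc : c ∈ F) (hab : a ≠ b) (hac : a ≠ c)
    (hbc : b ≠ c) : False := by
  classical
  obtain ⟨v1, h1L, h1, h1a⟩ := hsw a ha b hb hab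
  obtain ⟨v2, h2L, h2, h2c⟩ := hsw c hc a ha hac.symm
  obtain ⟨v, hvL, hv, hvc⟩ := hsw c hc b hb hbc.symm
  set O := coreOf L
  have hw : v1 * v2 ∈ O := mul_mem_coreOf hL h1L h2L h1 h2
  set Δ := MulAction.orbit O c with hΔ
  have hbΔ : b ∈ Δ := ⟨⟨v1 * v2, hw⟩, by
    show (v1 * v2) • c = b
    rw [mul_smul, h2c, h1a]⟩
  have hmap : ∀ x ∈ Δ, v • x ∈ Δ := by
    rintro _ ⟨⟨o, ho⟩, rfl⟩
    refine ⟨⟨v * o * v⁻¹ * (v1 * v2), mul_mem
      ((mem_normalizer_iff.1 (le_normalizer_coreOf L hvL) o).1 ho) hw⟩, ?_⟩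
    show (v * o * v⁻¹ * (v1 * v2)) • c = v • (o • c)
    have hvb : v⁻¹ • b = c := by rw [← hvc, inv_smul_smul]
    rw [mul_smul, mul_smul v1, h2c, h1a, mul_smul, mul_smul, hvb]
  have hodd : ¬ 2 ∣ Nat.card Δ := by
    intro h
    have h1 := (MulAction.orbitEquivQuotientStabilizer O c)
    rw [Nat.card_congr h1] at h
    exact Nat.not_even_iff_odd.2 (odd_coreOf L)
      (even_iff_two_dvd.2 (h.trans (index_dvd_card (stabilizer O c))))
  haveI : Fintype Δ := Fintype.ofFinite _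
  let σ : Equiv.Perm Δ :=
    { toFun := fun x => ⟨v • (x : G ⧸ H), hmap x x.2⟩
      invFun := fun x => ⟨v • (x : G ⧸ H), hmap x x.2⟩
      left_inv := fun x => Subtype.ext (invol_smul_smul hv _)
      right_inv := fun x => Subtype.ext (invol_smul_smul hv _) }
  obtain ⟨x, hx⟩ := Equiv.Perm.exists_fixed_point_of_prime (p := 2) (n := 1)
    (by rwa [← Nat.card_eq_fintype_card]) (σ := σ)
    (by
      ext x
      simp [σ, pow_succ, invol_smul_smul hv])
  have hxF : (x : G ⧸ H) ∈ F := by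
    obtain ⟨⟨o, ho⟩, ho'⟩ := x.2
    rw [← ho']
    exact hF o (coreOf_le L ho) c hc
  exact hfree v hvL hv x hxF (congrArg Subtype.val hx)

theorem exists_sylowIn_ge {r : ℕ} [Fact r.Prime] {P K : Subgroup G} (hP : IsPGroup r P)
    (hPK : P ≤ K) : ∃ Q, IsSylowIn r Q K ∧ P ≤ Q := by
  obtain ⟨Q, hQ⟩ := (hP.comap_subtype (K := K)).exists_le_sylow
  exact ⟨_, CfsgLib.Coprime.isSylowIn_map Q, fun x hx => ⟨⟨x, hPK hx⟩, hQ hx, rfl⟩⟩

theorem exists_conjBy_le {r : ℕ} [Fact r.Prime] {Q S L : Subgroup G} (hQ : IsPGroup r Q)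
    (hQL : Q ≤ L) (hS : IsSylowIn r S L) : ∃ g ∈ L, conjBy g Q ≤ S := by
  obtain ⟨Q', hQ', hQQ'⟩ := exists_sylowIn_ge hQ hQL
  obtain ⟨g, hg, rfl⟩ := hQ'.exists_conj hS
  exact ⟨g, hg, map_mono hQQ'⟩

theorem sylowIn_eq_of_le {r : ℕ} [Fact r.Prime] {P Q K : Subgroup G} (hP : IsSylowIn r P K)
    (hQ : IsPGroup r Q) (hQK : Q ≤ K) (hPQ : P ≤ Q) : P = Q :=
  eq_of_le_of_card_ge hPQ ((isPGroup_card_le hQ hQK).trans hP.2.ge)

theorem sylowIn_of_normalizer {r : ℕ} [Fact r.Prime] {P K : Subgroup G}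
    (hP : IsSylowIn r P (normalizer (P : Set G) ⊓ K)) : IsSylowIn r P K := by
  obtain ⟨Q, hQ, hPQ⟩ := exists_sylowIn_ge hP.isPGroup (hP.1.trans inf_le_right)
  by_cases hle : Q ≤ P
  · exact le_antisymm hPQ hle ▸ hQ
  obtain ⟨x, hxQ, hxN, hxP⟩ := CfsgLib.Invol.exists_mem_normalizer_notMem hQ.isPGroup hPQ hle
  refine absurd ?_ hxP
  rw [sylowIn_eq_of_le hP (hQ.isPGroup.to_le (sup_le hPQ (zpowers_le.2 hxQ)))
    (sup_le hP.1 (zpowers_le.2 ⟨hxN, hQ.1 hxQ⟩)) le_sup_left]
  exact mem_sup_right (mem_zpowers x)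

/-- `u` normalizes the `r`-group `P`, fixes no fixed point of `P` and has full `P`-orbit. -/
structure Good (r : ℕ) (H P : Subgroup G) (u : G) : Prop where
  isPGroup : IsPGroup r P
  invol : orderOf u = 2
  norm : u ∈ normalizer (P : Set G)
  free : ∀ a ∈ fixSet P H, u • a ≠ a
  full : rPart r (numInv H) ≤ (centralizer ({u} : Set G)).relIndex P

variable {r : ℕ} [hr : Fact r.Prime]

include hr in
theorem exists_fixed_of_not_dvd {P : Subgroup G} (hP : IsPGroup r P)
    (hn : ¬ r ∣ Nat.card (G ⧸ H)) : (fixSet P H).Nonempty := by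
  obtain ⟨a, ha⟩ := hP.nonempty_fixed_point_of_prime_not_dvd_card (G ⧸ H) hn
  exact ⟨a, fun x hx => mem_stabilizer_iff.2 (ha ⟨x, hx⟩)⟩

include hr in
theorem odd_card_of_isPGroup (hr2 : r ≠ 2) {P : Subgroup G} (hP : IsPGroup r P) :
    Odd (Nat.card P) := by
  obtain ⟨k, hk⟩ := IsPGroup.iff_card.1 hP
  rw [hk]
  exact (hr.out.odd_of_ne_two hr2).pow

variable (hH : Cfsg.IsStronglyEmbedded H)

include hH hr in
/-- A good subgroup fixes at most two points. -/
theorem good_two (hr2 : r ≠ 2) (hn : ¬ r ∣ Nat.card (G ⧸ H)) {P : Subgroup G} {u : G}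
    (hP : Good r H P u) {a b c : G ⧸ H} (ha : a ∈ fixSet P H) (hb : b ∈ fixSet P H)
    (hc : c ∈ fixSet P H) (hab : a ≠ b) (hac : a ≠ c) (hbc : b ≠ c) : False := by
  induction hk : Nat.card G - Nat.card P using Nat.strong_induction_on
    generalizing P u a b c with
  | _ k ih =>
  subst hk
  set L := normalizer (P : Set G) with hLdef
  have hPL : P ≤ L := le_normalizer
  have huL : u ∈ L := hP.norm
  obtain ⟨hlone, hconj⟩ := lonely_of_one huL hP.invol fun w hwL hw hcomm => by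
    by_contra hne
    obtain ⟨d, hd, hud, -⟩ := exists_fixed_of_pair hH (odd_card_of_isPGroup hr2 hP.isPGroup)
      hP.invol hw (Ne.symm hne) hcomm huL hwL
    exact hP.free d hd hud
  have hfree : ∀ v ∈ L, orderOf v = 2 → ∀ x ∈ fixSet P H, v • x ≠ x := by
    intro v hvL hv x hx hvx
    obtain ⟨g, hg, rfl⟩ := hconj v hvL hv
    refine hP.free (g⁻¹ • x) (smul_mem_fixSet (inv_mem hg) hx) ?_
    rw [mul_smul, mul_smul] at hvx
    conv_rhs => rw [← hvx, inv_smul_smul]
  -- an invariant Sylow subgroup of `L`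
  obtain ⟨R0, hR0, hPR0⟩ := exists_sylowIn_ge hP.isPGroup hPL
  set K0 := coreOf L ⊔ R0 with hK0
  have hK0L : K0 ≤ L := sup_le (coreOf_le L) hR0.1
  have hK0odd : Odd (Nat.card K0) :=
    ((odd_coreOf L).mul (odd_card_of_isPGroup hr2 hR0.isPGroup)).of_dvd_nat
      (by
        rw [hK0, sup_comm, mul_comm]
        exact CfsgLib.Coprime.card_sup_dvd_of_le_normalizer (hR0.1.trans (le_normalizer_coreOf L)))
  have huK0 : u ∈ normalizer (K0 : Set G) := by
    rw [← CfsgLib.Coprime.conjBy_eq_self_iff]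
    refine eq_of_le_of_card_ge ?_ (CfsgLib.Coprime.card_conjBy _ _).ge
    rw [hK0, conjBy, Subgroup.map_sup, sup_le_iff]
    refine ⟨le_trans (le_of_eq (CfsgLib.Coprime.conjBy_eq_self_iff.2
      (le_normalizer_coreOf L huL))) le_sup_left, ?_⟩
    rintro _ ⟨x, hx, rfl⟩
    show u * x * u⁻¹ ∈ coreOf L ⊔ R0
    have hxL := hR0.1 hx
    have h1 : u * (x * u * x⁻¹) ∈ coreOf L :=
      mul_mem_coreOf hlone huL (mul_mem (mul_mem hxL huL) (inv_mem hxL)) hP.invol
        (invol_conj hP.invol x)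
    have h2 : u * x * u⁻¹ = u * (x * u * x⁻¹) * x := by rw [invol_inv hP.invol]; group
    rw [h2]
    exact mul_mem_sup h1 hx
  obtain ⟨S, hS, hPS, huS⟩ := CfsgLib.Coprime.le_invariant_sylow (zpowers_le.2 huK0)
    (coprime_zpowers hP.invol hK0odd) (Or.inl (isSolvable_zpowers u))
    (hPR0.trans le_sup_right) hP.isPGroup (zpowers_le.2 huL)
  replace huS := huS (mem_zpowers u)
  have hSL : IsSylowIn r S L := by
    refine ⟨hS.1.trans hK0L, le_antisymm (isPGroup_card_le hS.isPGroup (hS.1.trans hK0L)) ?_⟩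
    rw [← hR0.2, hS.2]
    exact isPGroup_card_le hR0.isPGroup le_sup_right
  obtain ⟨p, hp⟩ := exists_fixed_of_not_dvd (H := H) hS.isPGroup hn
  have hpP : p ∈ fixSet P H := hPS.trans hp
  have hup : p ≠ u • p := (hP.free p hpP).symm
  obtain ⟨Qp, -, hSQp, -, hQpi⟩ := exists_pair_sylow hH (r := r) hup hP.invol rfl hS.isPGroup
    (le_inf hp (smul_mem_fixSet huS hp)) huS
  have hSfull : (centralizer ({u} : Set G)).relIndex S ≤
      (centralizer ({u} : Set G)).relIndex P :=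
    ((relIndex_le_of_le hSQp).trans hQpi.le).trans hP.full
  refine no_three hlone (fun g hg x hx => smul_mem_fixSet hg hx) hfree ?_ ha hb hc hab hac hbc
  -- every pair is interchanged inside `L`
  intro x hx y hy hxy
  obtain ⟨Q, hQ, hPQ⟩ := exists_sylowIn_ge (K := L ⊓ pairStab x y) hP.isPGroup
    (le_inf hPL (le_inf hx hy))
  by_cases hQP : Q ≤ P
  · obtain ⟨v, hv, hvx, hvP⟩ := exists_swapper_normalizing hH hxy
      (sylowIn_of_normalizer (le_antisymm hQP hPQ ▸ hQ))
    exact ⟨v, hvP, hv, hvx⟩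
  obtain ⟨g, hg, hgQ⟩ := exists_conjBy_le hQ.isPGroup (hQ.1.trans inf_le_left) hSL
  have hPQ1 : P ≤ conjBy g Q :=
    (CfsgLib.Coprime.conjBy_eq_self_iff.2 hg).ge.trans (map_mono hPQ)
  have hgood : Good r H (conjBy g Q) u :=
    ⟨hQ.isPGroup.map _, hP.invol, mem_normalizer_of_relIndex_le hPQ1 hgQ huL hSfull,
      fun z hz => hP.free z (hPQ1.trans hz), hP.full.trans (relIndex_le_of_le hPQ1)⟩
  have hgx : g • x ∈ fixSet (conjBy g Q) H :=
    conjBy_le_stabilizer g (hQ.1.trans (inf_le_right.trans inf_le_left))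
  have hgy : g • y ∈ fixSet (conjBy g Q) H :=
    conjBy_le_stabilizer g (hQ.1.trans (inf_le_right.trans inf_le_right))
  have hlt : Nat.card P < Nat.card (conjBy g Q) := by
    rw [CfsgLib.Coprime.card_conjBy]
    refine lt_of_le_of_ne (card_le_of_le hPQ) fun h => hQP ?_
    exact (eq_of_le_of_card_ge hPQ h.ge).ge
  have hugx : u • g • x ∈ fixSet (conjBy g Q) H := smul_mem_fixSet hgood.norm hgx
  have heq : u • g • x = g • y := by
    by_contra hne
    exact ih _ (by have := Subgroup.card_le_card_group (conjBy g Q); omega) hgood hgx hgy hugx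
      (fun h => hxy (smul_left_cancel g h)) (hgood.free _ hgx).symm (Ne.symm hne) rfl
  refine ⟨g⁻¹ * u * g, mul_mem (mul_mem (inv_mem hg) huL) hg,
    by simpa using invol_conj hP.invol g⁻¹, ?_⟩
  rw [mul_smul, mul_smul, heq, inv_smul_smul]

include hH hr in
/-- If no involution fixing a fixed point of a Sylow subgroup `R` of a point stabilizer normalizes `R`,
then `r` does not divide the number of points. -/
theorem not_dvd_points (hr2 : r ≠ 2) {c : G ⧸ H} {R : Subgroup G}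
    (hR : IsSylowIn r R (stabilizer G c))
    (hnorm : ∀ v, orderOf v = 2 → v ∈ normalizer (R : Set G) → ∀ a ∈ fixSet R H, v • a ≠ a) :
    ¬ r ∣ Nat.card (G ⧸ H) := by
  classical
  intro hdvd
  haveI := Fintype.ofFinite (G ⧸ H)
  have hfix : r ∣ Nat.card (fixedPoints R (G ⧸ H)) :=
    Nat.modEq_zero_iff_dvd.1 ((hR.isPGroup.card_modEq_card_fixedPoints (G ⧸ H)).symm.trans
      (Nat.modEq_zero_iff_dvd.2 hdvd))
  have hset : (fixedPoints R (G ⧸ H)) = fixSet R H := by
    ext a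
    exact ⟨fun h x hx => mem_stabilizer_iff.2 (h ⟨x, hx⟩), fun h x => smul_eq_of_mem h x.2⟩
  rw [hset] at hfix
  have hcF : c ∈ fixSet R H := hR.1
  haveI : Nonempty (fixSet R H) := ⟨⟨c, hcF⟩⟩
  have h3 : 2 < Nat.card (fixSet R H) :=
    lt_of_lt_of_le (lt_of_le_of_ne hr.out.two_le hr2.symm) (Nat.le_of_dvd Nat.card_pos hfix)
  rw [Nat.card_coe_set_eq, Set.two_lt_ncard_iff (Set.toFinite _)] at h3
  obtain ⟨a, b, d, ha, hb, hd, hab, had, hbd⟩ := h3
  refine no_three (L := normalizer (R : Set G)) (fun v hv w hw hvo hwo hvw => ?_)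
    (fun g hg x hx => smul_mem_fixSet hg hx) (fun v hv hvo => hnorm v hvo hv) ?_ ha hb hd hab had hbd
  · by_contra hne
    obtain ⟨e, he, hve, -⟩ := exists_fixed_of_pair hH (odd_card_of_isPGroup hr2 hR.isPGroup)
      hvo hwo hne hvw hv hw
    exact hnorm v hvo hv e he hve
  · intro x hx y hy hxy
    have hRD : IsSylowIn r R (pairStab x y) := by
      refine ⟨le_inf hx hy, le_antisymm (isPGroup_card_le hR.isPGroup (le_inf hx hy)) ?_⟩
      rw [hR.2]
      refine Nat.pow_le_pow_right hr.out.pos ?_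
      obtain ⟨g, hg⟩ := MulAction.exists_smul_eq G x c
      have hc : Nat.card (stabilizer G c) = Nat.card (stabilizer G x) := by
        rw [← hg, stabilizer_smul_eq_stabilizer_map_conj]
        exact card_map_of_injective (MulAut.conj g).injective
      rw [hc]
      exact (Nat.factorization_le_iff_dvd Nat.card_pos.ne' Nat.card_pos.ne').2
        (card_dvd_of_le inf_le_left) r
    obtain ⟨v, hv, hvx, hvR⟩ := exists_swapper_normalizing hH hxy hRD
    exact ⟨v, hvR, hv, hvx⟩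

end CfsgLib.Bender
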