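import Cfsg.Agent.Lib.Char.ExceptionalConst
import Cfsg.Agent.Lib.Char.ClassMul
import Cfsg.Agent.Lib.Char.TiInduced

/-!
# An abelian subgroup equal to the centralizers of its elements and a class of involutions of that size

`false_of_ccSubgroup`: `A` abelian of odd order, `C(x) = A` for `x ∈ A#`, no element of `A#` a product of
two conjugates of the involution `t`, `t` with exactly `|A|` conjugates, `|A|` with two prime power parts
exceeding `|N(A) : A|`: impossible, unless some character is scalar at `t` and not trivial on `A`.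
-/

set_option autoImplicit false
set_option linter.style.haveILetI false
set_option linter.unusedSectionVars false

namespace CfsgLib.Bender.CCKill

open scoped ComplexConjugate
open Cfsg CfsgLib.Char

universe u

private theorem prime_pow_dvd_lcm {ι : Type*} [DecidableEq ι] {p v : ℕ} (hp : p.Prime) (hv : v ≠ 0)
    (s : Finset ι) (f : ι → ℕ) (hf : ∀ i ∈ s, f i ≠ 0) (h : p ^ v ∣ s.lcm f) :
    ∃ i ∈ s, p ^ v ∣ f i := by
  induction s using Finset.induction with
  | empty =>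
    rw [Finset.lcm_empty, Nat.dvd_one, pow_eq_one_iff] at h
    rcases h with h | h
    · exact absurd h hp.ne_one
    · exact absurd h hv
  | @insert a s has ih =>
    rw [Finset.lcm_insert] at h
    change p ^ v ∣ Nat.lcm (f a) (s.lcm f) at h
    have hfa := hf a (Finset.mem_insert_self a s)
    have hs0 : s.lcm f ≠ 0 := fun e => by
      obtain ⟨i, hi, hi0⟩ := Finset.lcm_eq_zero_iff.1 e
      exact hf i (Finset.mem_insert_of_mem hi) hi0
    rw [hp.pow_dvd_iff_le_factorization (Nat.lcm_ne_zero hfa hs0),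
      Nat.factorization_lcm hfa hs0, Finsupp.sup_apply, le_sup_iff] at h
    rcases h with h | h
    · exact ⟨a, Finset.mem_insert_self a s, (hp.pow_dvd_iff_le_factorization hfa).2 h⟩
    · obtain ⟨i, hi, hd⟩ := ih (fun i hi => hf i (Finset.mem_insert_of_mem hi))
        ((hp.pow_dvd_iff_le_factorization hs0).2 h)
      exact ⟨i, Finset.mem_insert_of_mem hi, hd⟩

/-- The value of a character at an involution is an integer. -/
theorem exists_int_of_invol {G : Type u} [Group G] [Finite G] (χ : IrrCharacter G) {t : G}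
    (ht : orderOf t = 2) :
    ∃ a : ℤ, (χ : G → ℂ) t = a ∧ ∀ d : ℕ, (χ : G → ℂ) 1 = d → a.natAbs ≤ d := by
  obtain ⟨χ, n, ρ, hρ, rfl⟩ := χ
  obtain ⟨b, μ, h1, -, h3⟩ := exists_eigen_data ρ t
  have e := h3 1
  simp only [pow_one] at e
  have hμ : ∀ i, ∃ z : ℤ, z.natAbs = 1 ∧ μ i = z := fun i => by
    have h := h1 i
    rw [ht, sq_eq_one_iff] at h
    rcases h with h | h
    · exact ⟨1, rfl, by rw [h, Int.cast_one]⟩
    · exact ⟨-1, rfl, by rw [h, Int.cast_neg, Int.cast_one]⟩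
  choose z hz1 hz2 using hμ
  refine ⟨∑ i, z i, ?_, fun d hd => ?_⟩
  · show ρ.character t = _
    rw [e, Int.cast_sum]
    exact Finset.sum_congr rfl fun i _ => hz2 i
  · have hd' : (Module.finrank ℂ (Fin n → ℂ) : ℂ) = d := by
      rw [← Representation.char_one ρ]; exact hd
    rw [← Nat.cast_injective (R := ℂ) hd']
    calc (∑ i, z i).natAbs ≤ ∑ i, (z i).natAbs := Int.natAbs_sum_le _ _
      _ = _ := by simp [hz1]

variable {G : Type u} [Group G] [Finite G]

set_option maxHeartbeats 1000000 in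
/-- The contradiction. -/
theorem false_of_ccSubgroup (A : Subgroup G)
    (hA : ∀ x ∈ A, x ≠ 1 → Subgroup.centralizer ({x} : Set G) = A)
    (hab : ∀ a ∈ A, ∀ b ∈ A, a * b = b * a) (hodd : Odd (Nat.card A)) {t : G} (ht : orderOf t = 2)
    (hno : ∀ g h : G, g * t * g⁻¹ * (h * t * h⁻¹) ∈ A → g * t * g⁻¹ * (h * t * h⁻¹) = 1)
    (hclass : (Subgroup.centralizer ({t} : Set G)).index = Nat.card A)
    (hscal : ∀ χ : IrrCharacter G, (χ : G → ℂ) t = (χ : G → ℂ) 1 ∨ (χ : G → ℂ) t = -(χ : G → ℂ) 1 →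
      ∀ a ∈ A, (χ : G → ℂ) a = (χ : G → ℂ) 1)
    {p q : ℕ} (hp : p.Prime) (hq : q.Prime) (hpq : p ≠ q)
    (hpe : excIndex A < p ^ (Nat.card A).factorization p)
    (hqe : excIndex A < q ^ (Nat.card A).factorization q) : False := by
  classical
  haveI := Fintype.ofFinite G
  haveI := Fintype.ofFinite (IrrCharacter G)
  set n := Nat.card A with hn
  set e := excIndex A with he
  have hn0 : n ≠ 0 := Nat.card_pos.ne'
  have he1 : 1 ≤ e := Nat.one_le_iff_ne_zero.2 Subgroup.index_ne_zero_of_finite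
  -- the number of exceptional characters
  set k := Nat.card (Exc A) with hk
  have hke : k * e = n - 1 := card_exc A hA hab
  have hk2 : e + 1 < k := by
    have h1 : p ^ n.factorization p * q ^ n.factorization q ∣ n :=
      Nat.Coprime.mul_dvd_of_dvd_of_dvd (Nat.Coprime.pow _ _ ((Nat.coprime_primes hp hq).2 hpq))
        (Nat.ordProj_dvd n p) (Nat.ordProj_dvd n q)
    have h2 := Nat.le_of_dvd (Nat.pos_of_ne_zero hn0) h1
    have h3 : (e + 1) * (e + 1) ≤ n := le_trans (Nat.mul_le_mul hpe hqe) h2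
    by_contra hle
    push Not at hle
    have h4 : k * e ≤ (e + 1) * e := Nat.mul_le_mul_right e hle
    rw [add_one_mul, mul_add_one] at h3
    rw [add_one_mul] at h4
    omega
  haveI : Nontrivial (Exc A) := Finite.one_lt_card_iff_nontrivial.1 (show 1 < Nat.card (Exc A) by omega)
  haveI : Nontrivial A := Finite.one_lt_card_iff_nontrivial.1 (by
    have h1 := Nat.le_of_dvd (Nat.pos_of_ne_zero hn0) (Nat.ordProj_dvd n p)
    omega)
  haveI := Fintype.ofFinite (Exc A)
  obtain ⟨D⟩ := nonempty_excData A hA hab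
  set N := Subgroup.normalizer (A : Set G)
  obtain ⟨⟨a₀, ha₀⟩, ha₀1⟩ := exists_ne (1 : A)
  replace ha₀1 : a₀ ≠ 1 := fun h => ha₀1 (Subtype.ext h)
  let k₀ : N := ⟨a₀, Subgroup.le_normalizer ha₀⟩
  have hk₀1 : k₀ ≠ 1 := fun h => ha₀1 (congrArg Subtype.val h)
  have hk₀A : (k₀ : G) ∈ A := ha₀
  have hε : (D.ε : ℂ) * D.ε = 1 := by rcases D.sign with h | h <;> simp [h]
  -- constants
  choose c hc using fun χ : IrrCharacter G => exists_const_value A hA hab D χ
  have hdiff : ∀ (χ ξ : Exc A) (x : G), indFun N ((χ.1 : N → ℂ) - (ξ.1 : N → ℂ)) x =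
      (D.ε : ℂ) * ((D.θ χ : G → ℂ) x - (D.θ ξ : G → ℂ) x) := fun χ ξ x => by rw [D.ind]; rfl
  obtain ⟨χ₀⟩ := (inferInstance : Nonempty (Exc A))
  set ce := c (D.θ χ₀) with hce
  have hθk : ∀ (χ : Exc A), (D.θ χ : G → ℂ) k₀ = (D.ε : ℂ) * (χ.1 : N → ℂ) k₀ + ce := by
    intro χ
    have h1 := (hc (D.θ χ) k₀ hk₀A hk₀1).1 χ rfl
    have h2 := (hc (D.θ χ₀) k₀ hk₀A hk₀1).1 χ₀ rfl
    have h3 := (exc_diff_ind A hA hab χ χ₀ k₀).symm.trans (hdiff χ χ₀ k₀)
    rw [← hce] at h2
    linear_combination (-(D.ε : ℂ)) * h3 + h2 - hε * ((D.θ χ : G → ℂ) k₀ - (D.θ χ₀ : G → ℂ) k₀)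
  set one : IrrCharacter G := ⟨fun _ => 1, isIrrCharacter_one⟩ with hone
  set S := Finset.univ.filter fun χ : IrrCharacter G => ∀ ξ : Exc A, D.θ ξ ≠ χ with hS
  have hS1 : one ∈ S := Finset.mem_filter.2 ⟨Finset.mem_univ _, fun ξ h =>
    exc_not_one A hA hab D ξ (congrArg Subtype.val h)⟩
  have hSk : ∀ χ ∈ S, (χ : G → ℂ) k₀ = c χ := fun χ hχ =>
    (hc χ k₀ hk₀A hk₀1).2 (Finset.mem_filter.1 hχ).2
  have hc1 : c one = 1 := by
    have h1 := hSk one hS1
    have h2 : ((1 : ℤ) : ℂ) = (c one : ℂ) := by rw [← h1]; simp [hone]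
    exact (Int.cast_injective h2).symm
  have hsplit : ∀ F : IrrCharacter G → ℂ,
      ∑ χ, F χ = (∑ ξ : Exc A, F (D.θ ξ)) + ∑ χ ∈ S, F χ := by
    intro F
    rw [← Finset.sum_filter_add_sum_filter_not Finset.univ
      (fun χ : IrrCharacter G => ∀ ξ : Exc A, D.θ ξ ≠ χ), add_comm]
    congr 1
    refine (Finset.sum_bij (fun ξ _ => D.θ ξ)
      (fun ξ _ => Finset.mem_filter.2 ⟨Finset.mem_univ _, fun h => h ξ rfl⟩) (fun a _ b _ h => D.inj h)
      (fun χ hχ => ?_) fun ξ _ => rfl).symm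
    have h1 := (Finset.mem_filter.1 hχ).2
    push Not at h1
    obtain ⟨ξ, hξ⟩ := h1
    exact ⟨ξ, Finset.mem_univ _, hξ⟩
  -- column orthogonality
  have hcol : (∑ χ ∈ S, c χ ^ 2) + k * ce ^ 2 - 2 * D.ε * ce = e := by
    obtain ⟨hs1, hs2⟩ := sum_exc_column A hA hab hk₀A hk₀1
    have h := sum_irr_mul_conj (G := G) a₀ a₀
    rw [if_pos (IsConj.refl a₀), hA a₀ ha₀ ha₀1, hsplit,
      Finset.sum_congr rfl (g := fun ξ : Exc A => (ξ.1 : N → ℂ) k₀ * conj ((ξ.1 : N → ℂ) k₀) +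
        (D.ε : ℂ) * ce * (ξ.1 : N → ℂ) k₀ + (D.ε : ℂ) * ce * conj ((ξ.1 : N → ℂ) k₀) + (ce : ℂ) * ce)
        fun ξ _ => by
          rw [show (D.θ ξ : G → ℂ) a₀ = _ from hθk ξ, map_add, map_mul, map_intCast, map_intCast]
          linear_combination (ξ.1 : N → ℂ) k₀ * conj ((ξ.1 : N → ℂ) k₀) * hε,
      Finset.sum_congr rfl (s₁ := S) (g := fun χ => ((c χ ^ 2 : ℤ) : ℂ)) fun χ hχ => by
        rw [show (χ : G → ℂ) a₀ = _ from hSk χ hχ, map_intCast]; push_cast; ring,
      Finset.sum_add_distrib, Finset.sum_add_distrib, Finset.sum_add_distrib, hs2, ← Finset.mul_sum,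
      ← Finset.mul_sum, ← map_sum, hs1, map_neg, map_one, Finset.sum_const, Finset.card_univ,
      ← Nat.card_eq_fintype_card, nsmul_eq_mul, ← hk, ← hn, ← he] at h
    apply Int.cast_injective (α := ℂ)
    push_cast at h ⊢
    linear_combination h
  have hS0 : 0 ≤ ∑ χ ∈ S, c χ ^ 2 := Finset.sum_nonneg fun χ _ => sq_nonneg _
  have hS2 : 1 ≤ ∑ χ ∈ S, c χ ^ 2 :=
    le_trans (by rw [hc1]; norm_num) (Finset.single_le_sum (fun χ _ => sq_nonneg (c χ)) hS1)
  have hce0 : ce = 0 := by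
    by_contra hne
    have h1 : 2 * D.ε * ce ≤ 2 * ce ^ 2 := by
      rcases D.sign with h | h <;> rw [h] <;> nlinarith [Int.le_self_sq ce, Int.le_self_sq (-ce)]
    have h2 : 1 ≤ ce ^ 2 := by
      have := sq_pos_of_ne_zero hne
      omega
    have h3 : ((k : ℤ) - 2) * 1 ≤ ((k : ℤ) - 2) * ce ^ 2 :=
      mul_le_mul_of_nonneg_left h2 (by omega)
    rw [mul_one, sub_mul] at h3
    omega
  have hsum : (∑ χ ∈ S, c χ ^ 2) = e := by rw [hce0] at hcol; simpa using hcol
  -- degrees modulo `n`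
  have hdeg : ∀ (χ : IrrCharacter G) (F : ↥N → ℂ) (cF : ℤ), IsGeneralizedCharacter N F →
      (∀ x : N, (x : G) ∈ A → x ≠ 1 → (χ : G → ℂ) x - F x = cF) → ∀ d f : ℤ,
      (χ : G → ℂ) 1 = d → F 1 = f → (n : ℤ) ∣ d - f - cF := by
    intro χ F cF hF hval d f hd hf
    haveI := Fintype.ofFinite A
    let i : A →* N := Subgroup.inclusion Subgroup.le_normalizer
    have hgen : IsGeneralizedCharacter A fun x : A => (χ : G → ℂ) x - F (i x) :=
      isGeneralizedCharacter_sub
        (isGeneralizedCharacter_comp (isGeneralizedCharacter_of_isCharacter (isCharacter_irr χ)) A.subtype)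
        (isGeneralizedCharacter_comp hF i)
    obtain ⟨z, hz⟩ := classInner_generalized_int hgen
      (isGeneralizedCharacter_of_isCharacter (isCharacter_of_isIrr (isIrrCharacter_one (G := A))))
    rw [classInner, ← Finset.add_sum_erase _ _ (Finset.mem_univ (1 : A)),
      Finset.sum_congr rfl (g := fun _ => (cF : ℂ)) fun x hx => by
        simp only [map_one, mul_one]
        exact hval (i x) x.2 fun h => (Finset.mem_erase.1 hx).1 (Subtype.ext
          (congrArg (fun y : N => (y : G)) h))] at hz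
    simp only [map_one, mul_one, Finset.sum_const, Finset.card_erase_of_mem (Finset.mem_univ _),
      Finset.card_univ, nsmul_eq_mul, ← Nat.card_eq_fintype_card,
      OneMemClass.coe_one, hd, hf, ← hn] at hz
    rw [Nat.cast_sub (Nat.one_le_iff_ne_zero.2 hn0), Nat.cast_one] at hz
    have hn' : (n : ℂ) ≠ 0 := Nat.cast_ne_zero.2 hn0
    refine ⟨z - cF, Int.cast_injective (α := ℂ) ?_⟩
    field_simp at hz
    push_cast
    linear_combination hz
  have hcop : n.Coprime e := index_coprime_of_centralizer_le A fun x hx hx1 => (hA x hx hx1).le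
  -- the exceptional characters vanish at `t`
  have htA : ∀ y : G, y * t * y⁻¹ ∈ A → y * t * y⁻¹ = 1 := fun y hy => by
    exfalso
    have h1 : orderOf (y * t * y⁻¹) = 2 := by rw [← ht]; exact orderOf_injective (MulAut.conj y).toMonoidHom (MulAut.conj y).injective t
    have h2 := hodd.of_dvd_nat (Subgroup.orderOf_dvd_natCard _ hy)
    rw [h1] at h2
    exact absurd h2 (by decide)
  have hsame : ∀ (x : G), (∀ y : G, y * x * y⁻¹ ∈ A → y * x * y⁻¹ = 1) → ∀ χ ξ : Exc A,
      (D.θ χ : G → ℂ) x = (D.θ ξ : G → ℂ) x := fun x hx χ ξ => by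
    have h1 := (hdiff χ ξ x).symm.trans (exc_diff_vanish A hA hab χ ξ x hx)
    linear_combination (D.ε : ℂ) * h1 - hε * ((D.θ χ : G → ℂ) x - (D.θ ξ : G → ℂ) x)
  obtain ⟨de, hde0, hde⟩ := isIrrCharacter_degree (D.θ χ₀).2
  obtain ⟨ae, hae, -⟩ := exists_int_of_invol (D.θ χ₀) ht
  have hdiv : (n : ℤ) ∣ (de : ℤ) - D.ε * e := by
    have h1 := hdeg (D.θ χ₀) ((D.ε : ℂ) • (χ₀.1 : N → ℂ)) 0
      (isGeneralizedCharacter_zsmul (isGeneralizedCharacter_of_isCharacter (isCharacter_irr _)) _)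
      (fun x hx hx1 => by
        rw [(hc (D.θ χ₀) x hx hx1).1 χ₀ rfl, ← hce, hce0, Pi.smul_apply, smul_eq_mul]
        push_cast; ring)
      de (D.ε * e) (by rw [hde]; norm_cast) (by
        rw [Pi.smul_apply, smul_eq_mul, exc_degree A hA hab, ← he]; push_cast; rfl)
    simpa using h1
  have hdecop : Nat.Coprime de n := by
    refine Nat.coprime_of_dvd fun r hr hrd hrn => ?_
    have h1 : (r : ℤ) ∣ D.ε * e := by
      have h2 := Int.dvd_sub (Int.natCast_dvd_natCast.2 hrd)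
        ((Int.natCast_dvd_natCast.2 hrn).trans hdiv)
      simpa using h2
    have h2 : r ∣ e := by
      rcases D.sign with h | h <;> rw [h] at h1 <;> simpa [Int.natCast_dvd_natCast] using h1
    exact hr.not_dvd_one (hcop ▸ Nat.dvd_gcd hrn h2)
  have hae0 : (D.θ χ₀ : G → ℂ) t = 0 := by
    obtain ⟨m, ρ, hρ, hρe⟩ := (D.θ χ₀).2
    have hfr : Module.finrank ℂ (Fin m → ℂ) = de := Nat.cast_injective (R := ℂ) (by
      rw [← hde, ← hρe, Representation.char_one])
    rcases char_zero_or_norm_eq_degree ρ t (by rw [hclass, hfr]; exact hdecop) with h | h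
    · rw [← hρe]; exact h
    exfalso
    rw [hρe, hae, hfr] at h
    have h' : (ae.natAbs : ℝ) = de := by
      rw [← h, Complex.norm_intCast, Nat.cast_natAbs, Int.cast_abs]
    have h1 : ae.natAbs = de := by exact_mod_cast h'
    have hall : ∀ ξ : Exc A, (ξ.1 : N → ℂ) k₀ = (D.ε : ℂ) * de := by
      intro ξ
      have h2 := hsame t htA ξ χ₀
      have h3 := hsame 1 (fun y _ => by group) ξ χ₀
      have h4 := hscal (D.θ ξ) (by
        rw [h2, h3, hae, hde]
        rcases Int.natAbs_eq ae with h5 | h5 <;> rw [h1] at h5 <;> rw [h5]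
        · exact Or.inl (Int.cast_natCast de)
        · exact Or.inr (by push_cast; rfl)) a₀ ha₀
      rw [hθk ξ, h3, hde, hce0, Int.cast_zero, add_zero] at h4
      linear_combination (D.ε : ℂ) * h4 - hε * (ξ.1 : N → ℂ) k₀
    have h5 := (sum_exc_column A hA hab hk₀A hk₀1).1
    rw [Finset.sum_congr rfl fun ξ _ => hall ξ, Finset.sum_const, Finset.card_univ,
      ← Nat.card_eq_fintype_card, nsmul_eq_mul, ← hk] at h5
    have h6 : (k : ℤ) * (D.ε * de) = -1 := by exact_mod_cast h5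
    have h7 := congrArg Int.natAbs h6
    rw [Int.natAbs_mul, Int.natAbs_mul] at h7
    rcases D.sign with h8 | h8 <;> rw [h8] at h7 <;> simp at h7 <;>
      nlinarith [Nat.mul_le_mul (show 2 ≤ k by omega) hde0]
  -- class multiplication
  have hzero : ∑ χ ∈ S, (χ : G → ℂ) t * (χ : G → ℂ) t * (c χ : ℂ) / (χ : G → ℂ) 1 = 0 := by
    have h := classConst_formula t t a₀
    have h0 : classConst t t a₀ = 0 := by
      refine Nat.card_eq_zero.2 (Or.inl ⟨fun ⟨⟨u, v⟩, hu, hv, huv⟩ => ?_⟩)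
      obtain ⟨g, rfl⟩ := isConj_iff.1 hu
      obtain ⟨g', rfl⟩ := isConj_iff.1 hv
      exact ha₀1 (huv ▸ hno g g' (huv.symm ▸ ha₀))
    rw [h0, Nat.cast_zero, finsum_eq_sum_of_fintype, hsplit] at h
    rw [Finset.sum_eq_zero (s := (Finset.univ : Finset (Exc A))) fun ξ _ => by
      rw [hsame t htA ξ χ₀, hae0]; simp, zero_add] at h
    have hcl : (Nat.card {x : G // IsConj t x} : ℂ) ≠ 0 := by
      rw [card_isConj, hclass]; exact Nat.cast_ne_zero.2 hn0
    have h2 := (mul_eq_zero.1 h.symm).resolve_left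
      (div_ne_zero (mul_ne_zero hcl hcl) (Nat.cast_ne_zero.2 Nat.card_pos.ne'))
    rw [← h2]
    refine Finset.sum_congr rfl fun χ hχ => ?_
    rw [show (χ : G → ℂ) a₀ = _ from hSk χ hχ, map_intCast]
  -- the terms modulo `n / g`
  choose d hdpos hd using fun χ : IrrCharacter G => isIrrCharacter_degree χ.2
  choose a ha hale using fun χ : IrrCharacter G => exists_int_of_invol χ ht
  set g : IrrCharacter G → ℕ := fun χ => Nat.gcd (d χ) n with hg
  have hterm : ∀ χ ∈ S, c χ ≠ 0 → g χ ∣ (c χ).natAbs ∧ ∃ T r : ℤ,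
      (χ : G → ℂ) t * (χ : G → ℂ) t * (c χ : ℂ) / (χ : G → ℂ) 1 = ((T + (n / g χ : ℕ) * r : ℤ) : ℂ) ∧
      0 ≤ T ∧ T ≤ c χ ^ 2 := by
    intro χ hχ _
    have hdvd : (n : ℤ) ∣ (d χ : ℤ) - c χ := by
      have h1 := hdeg χ 0 (c χ) isGeneralizedCharacter_zero (fun x hx hx1 => by
        rw [(hc χ x hx hx1).2 (Finset.mem_filter.1 hχ).2]; simp) (d χ) 0 (by rw [hd]; norm_cast)
        (by simp)
      simpa using h1
    have hgd : g χ ∣ d χ := Nat.gcd_dvd_left _ _
    have hgn : g χ ∣ n := Nat.gcd_dvd_right _ _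
    have hg0 : 0 < g χ := Nat.gcd_pos_of_pos_right _ (Nat.pos_of_ne_zero hn0)
    have hgc : (g χ : ℤ) ∣ c χ := by
      have h2 := Int.dvd_sub (Int.natCast_dvd_natCast.2 hgd)
        ((Int.natCast_dvd_natCast.2 hgn).trans hdvd)
      simpa using h2
    obtain ⟨c', hc'⟩ := hgc
    set D' := d χ / g χ with hD'
    set n' := n / g χ with hn'
    have hdD : d χ = g χ * D' := (Nat.mul_div_cancel' hgd).symm
    have hnn : n = g χ * n' := (Nat.mul_div_cancel' hgn).symm
    have hcopD : D'.Coprime n' := Nat.coprime_div_gcd_div_gcd hg0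
    -- the central character
    have hω : (d χ : ℤ) ∣ (n : ℤ) * a χ := by
      have h := isIntegral_omega χ t
      rw [omega, card_isConj, hclass, ha, hd] at h
      have hq : ((n : ℂ) * (a χ : ℂ) / (d χ : ℂ)) =
          algebraMap ℚ ℂ (((n : ℤ) * a χ : ℤ) / (d χ : ℤ)) := by
        rw [eq_ratCast]; push_cast; rfl
      rw [hq, isIntegral_algebraMap_iff (algebraMap ℚ ℂ).injective,
        IsIntegrallyClosed.isIntegral_iff] at h
      obtain ⟨w, hw⟩ := h
      rw [eq_intCast, eq_div_iff (by exact_mod_cast (hdpos χ).ne')] at hw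
      exact ⟨w, by rw [mul_comm (d χ : ℤ)]; exact_mod_cast hw.symm⟩
    have hDa : (D' : ℤ) ∣ a χ := by
      refine Int.dvd_of_dvd_mul_left_of_gcd_one (b := a χ) (c := (n' : ℤ)) ?_ ?_
      · rw [hdD, hnn, Nat.cast_mul, Nat.cast_mul, mul_assoc] at hω
        rw [mul_comm]
        exact Int.dvd_of_mul_dvd_mul_left (by exact_mod_cast hg0.ne') hω
      · rw [Int.gcd_natCast_natCast]; exact hcopD
    obtain ⟨j, hj⟩ := hDa
    have hj2 : j.natAbs ≤ g χ := by
      have h1 := hale χ (d χ) (hd χ)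
      rw [hj, hdD, Int.natAbs_mul, Int.natAbs_natCast, mul_comm (g χ)] at h1
      exact Nat.le_of_mul_le_mul_left h1 (Nat.pos_of_ne_zero fun h0 => by
        have := hdpos χ; rw [hdD, h0, mul_zero] at this; omega)
    have hD'c : (n' : ℤ) ∣ (D' : ℤ) - c' := by
      rw [hdD, hnn, hc', Nat.cast_mul, Nat.cast_mul, ← mul_sub] at hdvd
      exact Int.dvd_of_mul_dvd_mul_left (by exact_mod_cast hg0.ne') hdvd
    obtain ⟨r, hr⟩ := hD'c
    refine ⟨by rw [hc', Int.natAbs_mul, Int.natAbs_natCast]; exact Dvd.intro _ rfl,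
      (c' * j) ^ 2, c' * j ^ 2 * r, ?_, sq_nonneg _, ?_⟩
    · have hD'0 : (D' : ℂ) ≠ 0 := Nat.cast_ne_zero.2 fun h0 => by
        have := hdpos χ; rw [hdD, h0, mul_zero] at this; omega
      have hgC : (g χ : ℂ) ≠ 0 := Nat.cast_ne_zero.2 hg0.ne'
      rw [ha, hd, hj, hc', hdD]
      have hr' : ((D' : ℤ) : ℂ) - (c' : ℂ) = ((n' : ℤ) : ℂ) * (r : ℂ) := by exact_mod_cast hr
      push_cast at hr' ⊢
      field_simp
      linear_combination ((c' : ℂ) * (j : ℂ) ^ 2) * hr'
    · rw [hc', mul_pow, mul_pow, mul_comm]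
      exact mul_le_mul_of_nonneg_right (by
        rw [← Int.natAbs_sq j]; exact pow_le_pow_left₀ (by positivity) (by exact_mod_cast hj2) 2)
        (sq_nonneg _)
  -- the least common multiple
  set S' := (S.erase one).filter fun χ => c χ ≠ 0 with hS'
  have hS'S : ∀ χ ∈ S', χ ∈ S ∧ c χ ≠ 0 := fun χ hχ =>
    ⟨Finset.mem_of_mem_erase (Finset.mem_filter.1 hχ).1, (Finset.mem_filter.1 hχ).2⟩
  choose! hgc T r hT hT0 hTle using hterm
  set M := S'.lcm g with hM
  have hMn : M ∣ n := Finset.lcm_dvd fun χ _ => Nat.gcd_dvd_right _ _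
  have hM0 : M ≠ 0 := fun h => hn0 (zero_dvd_iff.1 (h ▸ hMn))
  set tot := 1 + ∑ χ ∈ S', T χ with htot
  have htoteq : ((n / M : ℕ) : ℤ) ∣ tot := by
    have h1 : ((tot + ∑ χ ∈ S', ((n / g χ : ℕ) : ℤ) * r χ : ℤ) : ℂ) = 0 := by
      have h := hzero
      rw [← Finset.add_sum_erase _ _ hS1, ← Finset.sum_filter_of_ne (p := fun χ => c χ ≠ 0)
        (fun χ _ hne h0 => hne (by rw [h0]; simp)), ← hS'] at h
      rw [Finset.sum_congr rfl fun χ hχ => hT χ (hS'S χ hχ).1 (hS'S χ hχ).2, hc1] at h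
      simp only [hone, Int.cast_one, mul_one, div_one] at h
      rw [← h, htot]
      push_cast
      rw [Finset.sum_add_distrib]
      ring
    have h2 := Int.cast_eq_zero.1 h1
    rw [add_eq_zero_iff_eq_neg] at h2
    rw [h2, dvd_neg]
    refine Finset.dvd_sum fun χ hχ => Dvd.dvd.mul_right (Int.natCast_dvd_natCast.2 ?_) _
    exact Nat.div_dvd_div_left hMn (Finset.dvd_lcm hχ)
  have hsum' : ∑ χ ∈ S', c χ ^ 2 + 1 ≤ (e : ℤ) := by
    rw [← hsum, ← Finset.add_sum_erase _ _ hS1, hc1, one_pow, add_comm _ (1 : ℤ)]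
    exact add_le_add le_rfl (Finset.sum_le_sum_of_subset_of_nonneg (Finset.filter_subset _ _)
      fun χ _ _ => sq_nonneg _)
  have htot1 : 1 ≤ tot := le_add_of_nonneg_right (Finset.sum_nonneg fun χ hχ =>
    hT0 χ (hS'S χ hχ).1 (hS'S χ hχ).2)
  have htote : tot ≤ e := le_trans (add_le_add le_rfl (Finset.sum_le_sum fun χ hχ =>
    hTle χ (hS'S χ hχ).1 (hS'S χ hχ).2)) (by linarith)
  have hnM : n / M ≤ e := by
    have := Int.le_of_dvd (by omega) htoteq
    omega
  -- prime parts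
  have hpart : ∀ {l : ℕ}, l.Prime → e < l ^ n.factorization l →
      e < (l ^ (n / M).factorization l) ^ 2 := by
    intro l hl hle
    have hvn : M.factorization l ≤ n.factorization l :=
      (Nat.factorization_le_iff_dvd hM0 hn0).2 hMn l
    rw [Nat.factorization_div hMn, Finsupp.tsub_apply]
    set v := M.factorization l with hv
    have hv2 : (l ^ v) ^ 2 ≤ e := by
      rcases Nat.eq_zero_or_pos v with h0 | h0
      · rw [h0]; simpa using he1
      obtain ⟨χ, hχ, hd'⟩ := prime_pow_dvd_lcm hl h0.ne' S' g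
        (fun χ _ => (Nat.gcd_pos_of_pos_right _ (Nat.pos_of_ne_zero hn0)).ne') (Nat.ordProj_dvd M l)
      have h1 : l ^ v ≤ (c χ).natAbs := Nat.le_of_dvd (Int.natAbs_pos.2 (hS'S χ hχ).2)
        (hd'.trans (hgc χ (hS'S χ hχ).1 (hS'S χ hχ).2))
      have h2 : c χ ^ 2 ≤ (e : ℤ) := by
        have := Finset.single_le_sum (fun χ _ => sq_nonneg (c χ)) hχ
        linarith
      have h3 : ((c χ).natAbs : ℤ) ^ 2 ≤ e := by rw [Int.natAbs_sq]; exact h2
      calc (l ^ v) ^ 2 ≤ (c χ).natAbs ^ 2 := Nat.pow_le_pow_left h1 2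
        _ ≤ e := by exact_mod_cast h3
    have hsplit' : l ^ n.factorization l = l ^ (n.factorization l - v) * l ^ v := by
      rw [← pow_add, Nat.sub_add_cancel hvn]
    rw [hsplit'] at hle
    by_contra hcon
    push Not at hcon
    have h4 := Nat.mul_le_mul hcon hv2
    have h5 := Nat.mul_lt_mul_of_lt_of_lt hle hle
    rw [sq, sq] at h4
    nlinarith
  have hpp := hpart hp hpe
  have hqq := hpart hq hqe
  have h1 : p ^ (n / M).factorization p * q ^ (n / M).factorization q ≤ n / M :=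
    Nat.le_of_dvd (Nat.div_pos (Nat.le_of_dvd (Nat.pos_of_ne_zero hn0) hMn) (Nat.pos_of_ne_zero hM0))
      (Nat.Coprime.mul_dvd_of_dvd_of_dvd (Nat.Coprime.pow _ _ ((Nat.coprime_primes hp hq).2 hpq))
        (Nat.ordProj_dvd _ p) (Nat.ordProj_dvd _ q))
  have h2 := Nat.pow_le_pow_left (h1.trans hnM) 2
  rw [mul_pow, sq e] at h2
  have h3 := Nat.mul_lt_mul_of_lt_of_lt hpp hqq
  omega

end CfsgLib.Bender.CCKill
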