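import Cfsg.Agent.Lib.Coprime.Action
import Cfsg.Agent.Lib.Invol.Basic

/-!
# Bender's transitivity theorem: `r`-parts of orbit lengths of an involution

For an involution `u` and `C = C(u)` the number `C.relIndex D` is the length of the `D`-orbit of `u`.
-/

set_option autoImplicit false
set_option linter.style.haveILetI false

namespace CfsgLib.Bender

open Subgroup
open CfsgLib.Coprime (IsSylowIn conjBy)

/-- The `r`-part of a natural number. -/
def rPart (r n : ℕ) : ℕ := r ^ n.factorization r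

variable {G : Type*} [Group G]

theorem conj_mem_normalizer_of_mem {u g : G} {Q : Subgroup G} (hu : u ∈ normalizer (Q : Set G)) :
    g * u * g⁻¹ ∈ normalizer ((conjBy g Q : Subgroup G) : Set G) :=
  le_normalizer_map (f := (MulAut.conj g).toMonoidHom) (H := Q) ⟨u, hu, rfl⟩

theorem centralizer_zpowers_eq (u : G) :
    centralizer (zpowers u : Set G) = centralizer ({u} : Set G) := by
  rw [zpowers_eq_closure, centralizer_closure]

variable [Finite G]

theorem relIndex_mul_card_inf (C Q : Subgroup G) :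
    C.relIndex Q * Nat.card ↥(C ⊓ Q) = Nat.card Q := by
  rw [← inf_relIndex_right, mul_comm, relIndex,
    ← Nat.card_congr (subgroupOfEquivOfLe (inf_le_right : C ⊓ Q ≤ Q)).toEquiv, card_mul_index]

theorem rPart_card_eq (r : ℕ) (C D : Subgroup G) :
    rPart r (Nat.card D) = rPart r (C.relIndex D) * rPart r (Nat.card ↥(C ⊓ D)) := by
  rw [rPart, rPart, rPart, ← pow_add, ← relIndex_mul_card_inf C D, Nat.factorization_mul
    (fun h => Nat.card_pos.ne' (by rw [← relIndex_mul_card_inf C D, h, zero_mul]))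
    Nat.card_pos.ne', Finsupp.add_apply]

theorem relIndex_pos (C Q : Subgroup G) : 0 < C.relIndex Q :=
  Nat.pos_of_ne_zero fun h => Nat.card_pos.ne' (by rw [← relIndex_mul_card_inf C Q, h, zero_mul])

variable {r : ℕ} [hr : Fact r.Prime]

theorem isPGroup_card_le {Q D : Subgroup G} (hQ : IsPGroup r Q) (hQD : Q ≤ D) :
    Nat.card Q ≤ rPart r (Nat.card D) := by
  obtain ⟨k, hk⟩ := IsPGroup.iff_card.1 hQ
  rw [hk, rPart]
  refine Nat.pow_le_pow_right hr.out.pos ((hr.out.pow_dvd_iff_le_factorization Nat.card_pos.ne').1 ?_)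
  exact hk ▸ card_dvd_of_le hQD

/-- The orbit of an involution under a Sylow subgroup of `D` is not shorter than the `r`-part of its
`D`-orbit. -/
theorem rPart_relIndex_le {C D Q : Subgroup G} (hQ : IsSylowIn r Q D) :
    rPart r (C.relIndex D) ≤ C.relIndex Q := by
  have h1 : Nat.card ↥(C ⊓ Q) ≤ rPart r (Nat.card ↥(C ⊓ D)) :=
    isPGroup_card_le (hQ.isPGroup.to_le inf_le_right) (inf_le_inf_left _ hQ.1)
  have h2 := relIndex_mul_card_inf C Q
  rw [hQ.2] at h2
  change _ = rPart r (Nat.card D) at h2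
  rw [rPart_card_eq r C D] at h2
  exact Nat.le_of_mul_le_mul_right (h2.ge.trans (Nat.mul_le_mul_left _ h1))
    (pow_pos hr.out.pos _)

theorem relIndex_le_of_le {C P Q : Subgroup G} (hPQ : P ≤ Q) : C.relIndex P ≤ C.relIndex Q :=
  relIndex_le_of_le_right hPQ (relIndex_pos C Q).ne'

omit hr in
/-- Equal orbit lengths: a subgroup containing `P` and `C_Q(u)` is the whole of `Q`. -/
theorem eq_of_relIndex_le {C P K Q : Subgroup G} (hPK : P ≤ K) (hKQ : K ≤ Q) (hC : C ⊓ Q ≤ K)
    (h : C.relIndex Q ≤ C.relIndex P) : K = Q := by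
  refine eq_of_le_of_card_ge hKQ ?_
  have h1 : C ⊓ K = C ⊓ Q := le_antisymm (inf_le_inf_left _ hKQ) (le_inf inf_le_left hC)
  rw [← relIndex_mul_card_inf C Q, ← relIndex_mul_card_inf C K, h1]
  exact Nat.mul_le_mul_right _ (h.trans (relIndex_le_of_le hPK))

omit hr in
theorem coprime_zpowers {u : G} (hu : orderOf u = 2) {E : Subgroup G} (hE : Odd (Nat.card E)) :
    (Nat.card (zpowers u)).Coprime (Nat.card E) := by
  rw [Nat.card_zpowers, hu]
  exact Nat.coprime_two_left.2 hE

omit hr in
theorem isSolvable_zpowers (u : G) : Group.IsSolvable (zpowers u) :=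
  CfsgLib.Coprime.isSolvable_of_isMulCommutative inferInstance

/-- An invariant Sylow subgroup meets `C(u)` in a Sylow subgroup of `C_E(u)`. -/
theorem rPart_relIndex_eq {u : G} (hu : orderOf u = 2) {E P : Subgroup G} (hE : Odd (Nat.card E))
    (huE : u ∈ normalizer (E : Set G)) (hP : IsSylowIn r P E) (huP : u ∈ normalizer (P : Set G)) :
    (centralizer ({u} : Set G)).relIndex P = rPart r ((centralizer ({u} : Set G)).relIndex E) := by
  set C := centralizer ({u} : Set G) with hC
  refine le_antisymm ?_ (rPart_relIndex_le hP)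
  obtain ⟨U, hU⟩ : ∃ U, IsSylowIn r U (C ⊓ E) :=
    ⟨_, CfsgLib.Coprime.isSylowIn_map (default : Sylow r ↥(C ⊓ E))⟩
  have huU : zpowers u ≤ normalizer (U : Set G) := by
    refine zpowers_le.2 (centralizer_le_normalizer _ (mem_centralizer_iff.2 fun x hx => ?_))
    exact mem_centralizer_singleton_iff.1 (hU.1 hx).1
  obtain ⟨P', hP', hUP', huP'⟩ := CfsgLib.Coprime.le_invariant_sylow (zpowers_le.2 huE)
    (coprime_zpowers hu hE) (Or.inl (isSolvable_zpowers u)) (hU.1.trans inf_le_right) hU.isPGroup huU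
  obtain ⟨c, hc, hcP⟩ := CfsgLib.Coprime.invariant_sylow_conj (zpowers_le.2 huE)
    (coprime_zpowers hu hE) (Or.inl (isSolvable_zpowers u)) hP' hP huP' (zpowers_le.2 huP)
  have hcC : c ∈ C := by
    rw [hC, ← centralizer_zpowers_eq]; exact hc.2
  have hcU : conjBy c U ≤ C ⊓ P := by
    refine le_inf ?_ ((map_mono hUP').trans (le_of_eq hcP))
    rintro _ ⟨x, hx, rfl⟩
    exact mul_mem (mul_mem hcC (hU.1 hx).1) (inv_mem hcC)
  have h1 : rPart r (Nat.card ↥(C ⊓ E)) ≤ Nat.card ↥(C ⊓ P) := by
    have h := card_le_of_le hcU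
    rwa [CfsgLib.Coprime.card_conjBy, hU.2] at h
  have h2 := relIndex_mul_card_inf C P
  rw [hP.2] at h2
  change _ = rPart r (Nat.card E) at h2
  rw [rPart_card_eq r C E] at h2
  refine Nat.le_of_mul_le_mul_right ?_ (pow_pos hr.out.pos _ : 0 < rPart r (Nat.card ↥(C ⊓ E)))
  exact (Nat.mul_le_mul_left _ h1).trans h2.le

omit hr in
/-- A subgroup between an invariant subgroup `P` and `S`, with the same orbit length, is invariant. -/
theorem mem_normalizer_of_relIndex_le {u : G} {P K S : Subgroup G} (hPK : P ≤ K)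
    (hKS : K ≤ S) (huP : u ∈ normalizer (P : Set G))
    (h : (centralizer ({u} : Set G)).relIndex S ≤ (centralizer ({u} : Set G)).relIndex P) :
    u ∈ normalizer (K : Set G) := by
  have hKu : K ⊓ conjBy u K = K := by
    refine eq_of_relIndex_le (le_inf hPK ?_) inf_le_left (le_inf inf_le_right ?_)
      ((relIndex_le_of_le hKS).trans h)
    · exact (le_of_eq (CfsgLib.Coprime.conjBy_eq_self_iff.2 huP).symm).trans (map_mono hPK)
    · rintro x ⟨hxC, hxK⟩
      refine ⟨x, hxK, ?_⟩
      show u * x * u⁻¹ = x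
      rw [← mem_centralizer_singleton_iff.1 hxC, mul_inv_cancel_right]
  rw [← CfsgLib.Coprime.conjBy_eq_self_iff]
  exact (eq_of_le_of_card_ge (inf_eq_left.1 hKu) (CfsgLib.Coprime.card_conjBy _ _).le).symm

end CfsgLib.Bender
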