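import Cfsg.Agent.Lib.Invol.Basic

/-!
# Bender's transitivity theorem: the basic predicates
-/

set_option autoImplicit false

namespace CfsgLib.Bender

/-- Some two distinct involutions commute. -/
def HasPair (G : Type*) [Group G] : Prop :=
  ∃ t s : G, orderOf t = 2 ∧ orderOf s = 2 ∧ t ≠ s ∧ Commute t s

/-- `M` permutes the involutions of `G` transitively by conjugation. -/
def InvTrans {G : Type*} [Group G] (M : Subgroup G) : Prop :=
  ∀ t s : G, orderOf t = 2 → orderOf s = 2 → ∃ a ∈ M, a * t * a⁻¹ = s

end CfsgLib.Bender
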