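import Cfsg.Agent.Lib.Bender.OddTransitive.Signal

/-!
# A Sylow subgroup inside a maximal subgroup of odd order transitive on the involutions

If `O(X) = 1 = O₂(X)`, commuting involutions exist and `X` has no strongly embedded subgroup, then a maximal
subgroup of odd order which is transitive on the involutions contains a Sylow `r`-subgroup of `X` for some
odd prime `r`, and no involution normalizes it.
-/

set_option autoImplicit false
set_option linter.unusedSectionVars false
set_option linter.style.haveILetI false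

open Subgroup
open scoped commutatorElement
open CfsgLib.CFun (core coCore isPGroup_core core_le le_normalizer_core coCore_le le_normalizer_coCore
  not_dvd_coCore core_le_coCore)
open CfsgLib.Fusion (conjBy mem_conjBy conj_mem_conjBy conjBy_le_iff conjBy_eq_iff card_conjBy conjBy_mono
  conjBy_conjBy_inv conjBy_inv_conjBy conjBy_centralizer)
open CfsgLib.Coprime (conj_mem_of_le_normalizer)

namespace CfsgLib.Bender

universe u

variable {X : Type u} [Group X] [Finite X] {M : Subgroup X}

namespace MaxOdd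

variable (h : MaxOdd M)
include h

theorem exists_core_ne_bot : ∃ r : ℕ, r.Prime ∧ core M r ≠ ⊥ := by
  by_contra hc
  push Not at hc
  haveI := h.solvable
  have hF : Cfsg.fittingOf M ≤ ⊥ := CfsgLib.CFun.fittingOf_le_of_cores fun t ht => (hc t ht).le
  refine h.ne_bot (le_bot_iff.1 ((le_inf le_rfl fun x _ => ?_).trans
    (CfsgLib.CFun.centralizer_fittingOf_le.trans hF)))
  exact mem_centralizer_iff.2 fun y hy => by rw [mem_bot.1 (hF hy), one_mul, mul_one]

/-- If the conjugates of `az` under the normalizer of a Sylow subgroup centralize the other parts of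
`F(M)`, then that normalizer lies in `M`. -/
theorem normalizer_le_of_centralizing {q : ℕ} [hq : Fact q.Prime] (hcore : core M q ≠ ⊥)
    (hco : coCore M q ≠ ⊥) {T : Subgroup X} (hT : CfsgLib.Coprime.IsSylowIn q T M)
    (hc : ∀ y ∈ normalizer (T : Set X), ∀ k : ℕ, k.Prime → k ≠ q → core M k ≠ ⊥ →
      az M q ≤ centralizer (conjBy y (core M k) : Set X)) :
    normalizer (T : Set X) ≤ M := by
  intro y hy
  haveI := h.solvable
  set O := coCore M q with hOdef
  set P := core M q with hPdef
  have hPT : P ≤ T := by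
    have h1 := map_mono (f := M.subtype) (CfsgLib.Coprime.pCore_le_sylow (p := q) hT.toSylow)
    rwa [hT.map_toSylow] at h1
  set B := conjBy y⁻¹ (az M q) with hBdef
  have hBT : B ≤ T := (conjBy_mono (az_le_core.trans hPT)).trans (conjBy_eq_iff.2 (inv_mem hy)).le
  have hBM : B ≤ M := hBT.trans hT.1
  have hBq : IsPGroup q B := hT.isPGroup.to_le hBT
  have hBU : ∀ k : ℕ, k.Prime → k ≠ q → B ≤ centralizer (core M k : Set X) := fun k hk hne => by
    by_cases hb : core M k = ⊥
    · intro x _
      exact mem_centralizer_iff.2 fun z hz => by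
        rw [mem_bot.1 (hb.le hz), one_mul, mul_one]
    · have h1 : B ≤ conjBy y⁻¹ (centralizer (conjBy y (core M k) : Set X)) :=
        conjBy_mono (hc y hy k hk hne hb)
      rwa [conjBy_centralizer, conjBy_inv_conjBy] at h1
  have hBO : B ≤ normalizer (O : Set X) := hBM.trans le_normalizer_coCore
  have hX1 : ⁅O, B⁆ ≤ O := le_normalizer_iff_commutator_le_left.1 hBO
  have hX1F : ⁅O, B⁆ ≤ Cfsg.fittingOf M := by
    refine (le_inf (hX1.trans coCore_le) ?_).trans CfsgLib.CFun.centralizer_fittingOf_le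
    rw [le_centralizer_iff]
    refine CfsgLib.CFun.fittingOf_le_of_cores fun k hk => le_centralizer_iff.1 ?_
    haveI : Fact k.Prime := ⟨hk⟩
    rcases eq_or_ne k q with rfl | hne
    · exact hX1.trans (CfsgLib.CFun.le_centralizer_of_inf_eq_bot (coCore_le.trans le_normalizer_core)
        (core_le.trans le_normalizer_coCore) (by
          rw [inf_comm]; exact CfsgLib.CFun.inf_eq_bot_of_isPGroup isPGroup_core not_dvd_coCore))
    · rw [← commutator_eq_bot_iff_le_centralizer]
      refine commutator_commutator_eq_bot_of_rotate ?_ ?_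
      · rw [commutator_eq_bot_iff_le_centralizer.2 (hBU k hk hne), commutator_bot_left]
      · refine le_bot_iff.1 ((commutator_mono ?_ le_rfl).trans
          (commutator_eq_bot_iff_le_centralizer.2 (le_centralizer_iff.1 (hBU k hk hne))).le)
        exact le_normalizer_iff_commutator_le_left.1 (coCore_le.trans le_normalizer_core)
  have hL : Cfsg.fittingOf M ≤ P ⊔ (O ⊓ centralizer (B : Set X)) :=
    CfsgLib.CFun.fittingOf_le_of_cores fun k hk => by
      haveI : Fact k.Prime := ⟨hk⟩
      rcases eq_or_ne k q with rfl | hne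
      · exact le_sup_left
      · exact le_trans (le_inf (core_le_coCore hne) (le_centralizer_iff.1 (hBU k hk hne))) le_sup_right
  have hB1 : B ≤ centralizer ((⁅O, B⁆ : Subgroup X) : Set X) := by
    rw [le_centralizer_iff]
    intro x hx
    obtain ⟨p, hp, l, hl, rfl⟩ := CfsgLib.Coprime.mem_sup_exists
      ((inf_le_left.trans coCore_le).trans le_normalizer_core : O ⊓ centralizer (B : Set X) ≤
        normalizer (P : Set X)) (hL (hX1F hx))
    have h1 : p ∈ P ⊓ O := ⟨hp, by
      have := O.mul_mem (hX1 hx) (O.inv_mem hl.1)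
      rwa [mul_inv_cancel_right] at this⟩
    rw [CfsgLib.CFun.inf_eq_bot_of_isPGroup isPGroup_core not_dvd_coCore, mem_bot] at h1
    rw [h1, one_mul]
    exact hl.2
  have hBC : B ≤ centralizer (O : Set X) :=
    CfsgLib.Coprime.le_centralizer_of_le_centralizer_commutator hBO (by
      obtain ⟨i, hi⟩ := IsPGroup.iff_card.1 hBq
      rw [hi]
      exact ((hq.out.coprime_iff_not_dvd).2 not_dvd_coCore).pow_left i)
      (Or.inl (haveI := hBq.isNilpotent; CfsgLib.Coprime.isSolvable_of_isNilpotent inferInstance)) hB1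
  set O' := conjBy y O with hO'
  have hO'M : O' ≤ M := by
    have h1 : conjBy y B ≤ conjBy y (centralizer (O : Set X)) := conjBy_mono hBC
    rw [hBdef, conjBy_conjBy_inv, conjBy_centralizer, le_centralizer_iff] at h1
    exact h1.trans (h.centralizer_az_le hcore)
  have hTO' : T ≤ normalizer (O' : Set X) := by
    rw [hO', ← CfsgLib.Fusion.conjBy_normalizer, ← conjBy_eq_iff.2 hy]
    exact conjBy_mono (hT.1.trans le_normalizer_coCore)
  have hcons : CfsgLib.Invol.PCons q M := fun z hz hzc => by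
    have h1 := CfsgLib.Coprime.centralizer_pCore_le (G := M ⧸ Cfsg.pPrimeCore q M) (p := q)
      (CfsgLib.Coprime.pPrimeCore_quotient_eq_bot hq.out) hzc
    obtain ⟨i, hi⟩ := (CfsgLib.Coprime.pCore_isPGroup q : IsPGroup q (Cfsg.pCore q _)) ⟨z, h1⟩
    have h2 : orderOf z ∣ q ^ i := orderOf_dvd_of_pow_eq_one (by simpa using congrArg Subtype.val hi)
    exact orderOf_eq_one_iff.1 (Nat.eq_one_of_dvd_coprimes (hz.pow_right i) dvd_rfl h2)
  have hle : O' ≤ O := by
    have hcop : (Nat.card (O'.subgroupOf M)).Coprime q := by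
      rw [Nat.card_congr (subgroupOfEquivOfLe hO'M).toEquiv, hO', card_conjBy]
      exact ((hq.out.coprime_iff_not_dvd).2 not_dvd_coCore).symm
    have h1 := CfsgLib.CFun.le_pPrimeCore_of_sylow_invariant hcons hT.toSylow hcop (by
      intro t ht
      have htT : (t : X) ∈ T := by
        rw [← hT.map_toSylow]; exact mem_map_of_mem _ ht
      refine mem_normalizer_iff.2 fun x => ?_
      simp only [mem_subgroupOf, Subgroup.coe_mul, Subgroup.coe_inv]
      exact mem_normalizer_iff.1 (hTO' htT) x)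
    exact fun x hx => ⟨⟨x, hO'M hx⟩, h1 hx, rfl⟩
  rw [← h.normalizer_eq hco coCore_le le_normalizer_coCore]
  exact conjBy_eq_iff.1 (CfsgLib.Fusion.conjBy_eq_of_le hle)

theorem concl : ∃ r : ℕ, r.Prime ∧ r ≠ 2 ∧ ∃ R : Subgroup X, R ≤ M ∧
    CfsgLib.Coprime.IsSylowIn r R ⊤ ∧ ∀ v : X, orderOf v = 2 → v ∉ normalizer (R : Set X) := by
  classical
  by_cases hsingle : ∃ r : ℕ, r.Prime ∧ core M r ≠ ⊥ ∧ coCore M r = ⊥
  · obtain ⟨r, hr, -, hco⟩ := hsingle
    haveI : Fact r.Prime := ⟨hr⟩
    exact h.concl_of_coCore_eq_bot hco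
  push Not at hsingle
  have hdvd : ∀ k : ℕ, k.Prime → core M k ≠ ⊥ → k ∈ (Nat.card M).primeFactors := fun k hk hne => by
    haveI : Fact k.Prime := ⟨hk⟩
    exact Nat.mem_primeFactors.2 ⟨hk, (CfsgLib.CFun.dvd_of_core_ne_bot hne).trans
      (card_dvd_of_le CfsgLib.CFun.fittingOf_le), Nat.card_pos.ne'⟩
  set π := (Nat.card M).primeFactors.filter fun k => core M k ≠ ⊥ with hπ
  have hπne : π.Nonempty := by
    obtain ⟨r, hr, hne⟩ := h.exists_core_ne_bot
    exact ⟨r, Finset.mem_filter.2 ⟨hdvd r hr hne, hne⟩⟩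
  have finish : ∀ q ∈ π, (∀ T : Subgroup X, CfsgLib.Coprime.IsSylowIn q T M →
      ∀ y ∈ normalizer (T : Set X), ∀ k : ℕ, k.Prime → k ≠ q → core M k ≠ ⊥ →
        az M q ≤ centralizer (conjBy y (core M k) : Set X)) →
      ∃ r : ℕ, r.Prime ∧ r ≠ 2 ∧ ∃ R : Subgroup X, R ≤ M ∧
        CfsgLib.Coprime.IsSylowIn r R ⊤ ∧ ∀ v : X, orderOf v = 2 → v ∉ normalizer (R : Set X) := by
    intro q hqπ hc
    obtain ⟨hq1, hcore⟩ := Finset.mem_filter.1 hqπ
    have hq := Nat.prime_of_mem_primeFactors hq1
    haveI : Fact q.Prime := ⟨hq⟩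
    obtain ⟨S⟩ : Nonempty (Sylow q M) := inferInstance
    have hT := CfsgLib.Coprime.isSylowIn_map S
    exact h.concl_of_sylow hT
      (h.normalizer_le_of_centralizing hcore (hsingle q hq hcore) hT (hc _ hT))
  have hAnorm : ∀ q : ℕ, [Fact q.Prime] → ∀ T : Subgroup X, CfsgLib.Coprime.IsSylowIn q T M →
      ∀ y ∈ normalizer (T : Set X), az M q ≤ conjBy y M := fun q _ T hT y hy => by
    have hPT : core M q ≤ T := by
      have h1 := map_mono (f := M.subtype) (CfsgLib.Coprime.pCore_le_sylow (p := q) hT.toSylow)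
      rwa [hT.map_toSylow] at h1
    exact (az_le_core.trans hPT).trans ((conjBy_eq_iff.2 hy).symm.le.trans (conjBy_mono hT.1))
  have hnormU : ∀ y : X, ∀ k : ℕ, conjBy y M ≤ normalizer (conjBy y (core M k) : Set X) := fun y k => by
    rw [← CfsgLib.Fusion.conjBy_normalizer]
    exact conjBy_mono le_normalizer_core
  by_cases hnc : ∃ q ∈ π, q ^ 2 ≤ Nat.card (az M q)
  · obtain ⟨q, hqπ, h2⟩ := hnc
    obtain ⟨hq1, hcore⟩ := Finset.mem_filter.1 hqπ
    haveI : Fact q.Prime := ⟨Nat.prime_of_mem_primeFactors hq1⟩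
    refine finish q hqπ fun T hT y hy k hk hne hkcore => ?_
    haveI : Fact k.Prime := ⟨hk⟩
    exact h.az_le_centralizer_of_noncyclic hcore hkcore hne h2 (isPGroup_core.map _)
      ((hAnorm q T hT y hy).trans (hnormU y k))
  push Not at hnc
  set q := π.max' hπne with hqdef
  have hqπ : q ∈ π := π.max'_mem hπne
  refine finish q hqπ fun T hT y hy k hk hne hkcore => ?_
  obtain ⟨hq1, hcore⟩ := Finset.mem_filter.1 hqπ
  haveI hqf : Fact q.Prime := ⟨Nat.prime_of_mem_primeFactors hq1⟩
  haveI : Fact k.Prime := ⟨hk⟩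
  have hkπ : k ∈ π := Finset.mem_filter.2 ⟨hdvd k hk hkcore, hkcore⟩
  have hkq : k < q := lt_of_le_of_ne (π.le_max' k hkπ) hne
  have hkcard : Nat.card (az M k) = k := by
    obtain ⟨i, hi⟩ := IsPGroup.iff_card.1 (isPGroup_az (M := M) (q := k))
    have h2 := hnc k hkπ
    rw [hi] at h2
    rcases i with _ | _ | i
    · exact absurd (card_eq_one.1 (by rw [hi, pow_zero])) (az_ne_bot hkcore)
    · rw [hi, pow_one]
    · exact absurd (Nat.pow_le_pow_right hk.pos (by omega)) h2.not_ge
  set A' := conjBy y (az M q) with hA'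
  have hA'T : A' ≤ T := by
    have hPT : core M q ≤ T := by
      have h1 := map_mono (f := M.subtype) (CfsgLib.Coprime.pCore_le_sylow (p := q) hT.toSylow)
      rwa [hT.map_toSylow] at h1
    exact (conjBy_mono (az_le_core.trans hPT)).trans (conjBy_eq_iff.2 hy).le
  have hA'k : A' ≤ normalizer (az M k : Set X) := (hA'T.trans hT.1).trans le_normalizer_az
  have hcent : az M k ≤ centralizer (A' : Set X) := by
    letI : MulAction A' (az M k) :=
      { smul := fun b x => ⟨(b : X) * x * (b : X)⁻¹, conj_mem_of_le_normalizer hA'k b.2 x.2⟩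
        one_smul := fun x => Subtype.ext (show (1 : X) * x * (1 : X)⁻¹ = x by group)
        mul_smul := fun b c x => Subtype.ext
          (show (b : X) * c * x * ((b : X) * c)⁻¹ = b * (c * x * (c : X)⁻¹) * (b : X)⁻¹ by group) }
    have hmod := (hT.isPGroup.to_le hA'T).card_modEq_card_fixedPoints (az M k)
    rw [hkcard] at hmod
    have hle : Nat.card (MulAction.fixedPoints A' (az M k)) ≤ k :=
      (Finite.card_subtype_le _).trans hkcard.le
    have heq : Nat.card (MulAction.fixedPoints A' (az M k)) = Nat.card (az M k) := by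
      rw [hkcard]
      exact (Nat.ModEq.eq_of_lt_of_lt hmod hkq (hle.trans_lt hkq)).symm
    have huniv : (MulAction.fixedPoints A' (az M k)) = Set.univ := Set.eq_univ_of_forall fun x => by
      by_contra hx
      exact absurd heq (Finite.card_subtype_lt hx).ne
    intro x hx
    rw [mem_centralizer_iff]
    intro b hb
    have h1 : (⟨b, hb⟩ : A') • (⟨x, hx⟩ : az M k) = ⟨x, hx⟩ :=
      (Set.eq_univ_iff_forall.1 huniv ⟨x, hx⟩) ⟨b, hb⟩
    exact mul_inv_eq_iff_eq_mul.1 (congrArg Subtype.val h1)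
  have hkU : az M k ≤ normalizer (conjBy y (core M k) : Set X) := by
    refine (hcent.trans ?_).trans (hnormU y k)
    rw [hA', ← conjBy_centralizer]
    exact conjBy_mono (h.centralizer_az_le hcore)
  exact h.az_le_centralizer (Ne.symm hne) hkcore (isPGroup_core.map _) hkU
    ((hAnorm q T hT y hy).trans (hnormU y k))

end MaxOdd

/-- **Part A of Bender's transitivity theorem.** -/
theorem exists_sylow_le_of_maximal_odd {X : Type u} [Group X] [Finite X]
    (hO : Cfsg.pPrimeCore 2 X = ⊥) (h2 : Cfsg.pCore 2 X = ⊥) (hpair : HasPair X)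
    (hSE : ∀ Y : Subgroup X, ¬ Cfsg.IsStronglyEmbedded Y)
    {M : Subgroup X} (hM : Odd (Nat.card M))
    (hmax : ∀ M' : Subgroup X, M ≤ M' → Odd (Nat.card M') → M' = M) (htr : InvTrans M) :
    ∃ r : ℕ, r.Prime ∧ r ≠ 2 ∧ ∃ R : Subgroup X, R ≤ M ∧ CfsgLib.Coprime.IsSylowIn r R ⊤ ∧
      ∀ v : X, orderOf v = 2 → v ∉ Subgroup.normalizer (R : Set X) :=
  MaxOdd.concl ⟨hO, h2, hpair, hSE, hM, hmax, htr⟩

end CfsgLib.Bender
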