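import Cfsg.Agent.Lib.Bender.Statement
import Cfsg.Agent.Lib.Bender.OddTransitive

/-!
# Bender's transitivity theorem for strongly embedded subgroups
-/

set_option autoImplicit false

namespace CfsgLib.Bender

open Subgroup MulAction

universe u

theorem maxOddStatement : MaxOddStatement.{u} := fun _ _ _ hO h2 hpair hSE _ hM hmax htr =>
  exists_sylow_le_of_maximal_odd hO h2 hpair hSE hM hmax htr

variable {G : Type u} [Group G] [Finite G] {H : Subgroup G}

/-- A strongly embedded subgroup is either transitive off itself or `G` has 2-rank one and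
`G = O(G) H`. -/
theorem transitive_or_rank_one' (hH : Cfsg.IsStronglyEmbedded H) :
    (∀ g₁ g₂ : G, g₁ ∉ H → g₂ ∉ H → ∃ h ∈ H, g₂⁻¹ * (h * g₁) ∈ H) ∨
      ((∀ S : Sylow 2 G, IsCyclic S ∨
        ∃ m : ℕ, 1 ≤ m ∧ Nonempty ((S : Subgroup G) ≃* QuaternionGroup (2 ^ m))) ∧
        Cfsg.oddCore G ⊔ H = ⊤) :=
  transitive_or_rank_one hH maxOddStatement

/-- Two commuting involutions: `G` is doubly transitive on the cosets of `H`. -/
theorem coset_transitive' (hH : Cfsg.IsStronglyEmbedded H) (hpair : HasPair G) {g₁ g₂ : G}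
    (h1 : g₁ ∉ H) (h2 : g₂ ∉ H) : ∃ h ∈ H, g₂⁻¹ * (h * g₁) ∈ H :=
  coset_transitive hH maxOddStatement hpair h1 h2

/-- No group with a strongly embedded subgroup and two commuting involutions has an odd subgroup
permuting its involutions transitively. -/
theorem not_invTrans_of_stronglyEmbedded (hH : Cfsg.IsStronglyEmbedded H) (hpair : HasPair G)
    {M : Subgroup G} (hM : Odd (Nat.card M)) : ¬ InvTrans M :=
  noOddBelow maxOddStatement _ G le_rfl hpair H hH M hM

end CfsgLib.Bender
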