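import Cfsg.Agent.Lib.Bender.Count
import Cfsg.Agent.Lib.Bender.Defs
import Cfsg.Agent.Lib.Coprime.Core
import Cfsg.Agent.Lib.Invol.StronglyEmbedded

/-!
# Bender's transitivity theorem: the prime of an odd transitive subgroup

Reduction of the good prime to a maximal transitive subgroup of odd order of `H ⧸ O(H)`.
-/

set_option autoImplicit false
set_option linter.style.haveILetI false

namespace CfsgLib.Bender

open Subgroup
open CfsgLib.Coprime (IsSylowIn conjBy)
open CfsgLib.Invol (invol_conj invol_inv invol_mul_self invol_ne_one)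

universe u

/-- No group of order at most `n` with a strongly embedded subgroup has an odd subgroup permuting its
involutions transitively, if two involutions commute. -/
def NoOddBelow (n : ℕ) : Prop :=
  ∀ (X : Type u) [Group X] [Finite X], Nat.card X ≤ n → HasPair X →
    ∀ Y : Subgroup X, Cfsg.IsStronglyEmbedded Y → ∀ M : Subgroup X, Odd (Nat.card M) → ¬ InvTrans M

/-- The statement on maximal transitive subgroups of odd order. -/
def MaxOddStatement : Prop :=
  ∀ (X : Type u) [Group X] [Finite X], Cfsg.pPrimeCore 2 X = ⊥ → Cfsg.pCore 2 X = ⊥ → HasPair X →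
    (∀ Y : Subgroup X, ¬ Cfsg.IsStronglyEmbedded Y) → ∀ M : Subgroup X, Odd (Nat.card M) →
    (∀ M' : Subgroup X, M ≤ M' → Odd (Nat.card M') → M' = M) → InvTrans M →
    ∃ r : ℕ, r.Prime ∧ r ≠ 2 ∧ ∃ R : Subgroup X, R ≤ M ∧ IsSylowIn r R ⊤ ∧
      ∀ v : X, orderOf v = 2 → v ∉ normalizer (R : Set X)

theorem isSylowIn_map_hom {G G' : Type*} [Group G] [Finite G] [Group G'] [Finite G'] {r : ℕ}
    [Fact r.Prime] (f : G →* G') {Q K : Subgroup G} (h : IsSylowIn r Q K) :
    IsSylowIn r (Q.map f) (K.map f) := by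
  have hs : Function.Surjective (f.subgroupMap K) := MonoidHom.subgroupMap_surjective f K
  have h1 := CfsgLib.Coprime.isSylowIn_map (h.toSylow.mapSurjective hs)
  have h2 : ((h.toSylow.mapSurjective hs : Sylow r ↥(K.map f)) : Subgroup ↥(K.map f)).map
      (K.map f).subtype = Q.map f := by
    rw [Sylow.coe_mapSurjective, map_map]
    have : (K.map f).subtype.comp (f.subgroupMap K) = f.comp K.subtype := rfl
    rw [this, ← map_map, h.map_toSylow]
  rwa [h2] at h1

theorem invTrans_relIndex {X : Type*} [Group X] [Finite X] {M : Subgroup X} (htr : InvTrans M)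
    {v : X} (hv : orderOf v = 2) :
    (centralizer ({v} : Set X)).relIndex M = Nat.card {t : X // orderOf t = 2} := by
  classical
  have key : ∀ d e : M, d⁻¹ * e ∈ (centralizer ({v} : Set X)).subgroupOf M ↔
      (d : X) * v * (d : X)⁻¹ = (e : X) * v * (e : X)⁻¹ := by
    intro d e
    rw [mem_subgroupOf, mem_centralizer_singleton_iff]
    simp only [coe_mul, coe_inv]
    constructor
    · intro h
      calc (d : X) * v * (d : X)⁻¹ = d * (v * ((d : X)⁻¹ * e)) * (e : X)⁻¹ := by group
        _ = d * (((d : X)⁻¹ * e) * v) * (e : X)⁻¹ := by rw [h]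
        _ = (e : X) * v * (e : X)⁻¹ := by group
    · intro h
      calc (d : X)⁻¹ * e * v = (d : X)⁻¹ * (e * v * (e : X)⁻¹) * e := by group
        _ = (d : X)⁻¹ * (d * v * (d : X)⁻¹) * e := by rw [h]
        _ = v * ((d : X)⁻¹ * e) := by group
  let f : M ⧸ (centralizer ({v} : Set X)).subgroupOf M → {t : X // orderOf t = 2} :=
    Quotient.lift (fun d : M => ⟨(d : X) * v * (d : X)⁻¹, invol_conj hv _⟩)
      fun d e h => Subtype.ext ((key d e).1 (QuotientGroup.leftRel_apply.1 h))
  refine Nat.card_congr (Equiv.ofBijective f ⟨?_, ?_⟩)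
  · rintro ⟨d⟩ ⟨e⟩ h
    exact QuotientGroup.eq.2 ((key d e).2 (congrArg Subtype.val h))
  · rintro ⟨t, ht⟩
    obtain ⟨d, hd, h⟩ := htr v t hv ht
    exact ⟨QuotientGroup.mk ⟨d, hd⟩, Subtype.ext h⟩

variable {X : Type u} [Group X] [Finite X]

/-- The statement for a group with trivial odd core. -/
theorem exists_good_of_core (hA : MaxOddStatement.{u}) (hO : Cfsg.pPrimeCore 2 X = ⊥)
    (hpair : HasPair X) (hSE : ∀ Y : Subgroup X, ¬ Cfsg.IsStronglyEmbedded Y) {D : Subgroup X}
    (hD : Odd (Nat.card D)) (htr : InvTrans D) :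
    ∃ r : ℕ, r.Prime ∧ r ≠ 2 ∧
      (∀ (v : X) (R : Subgroup X), orderOf v = 2 → IsSylowIn r R ⊤ → v ∉ normalizer (R : Set X)) ∧
      ∀ (v : X) (Q : Subgroup X), orderOf v = 2 → IsSylowIn r Q D → v ∉ normalizer (Q : Set X) := by
  obtain ⟨t, s, ht, hs, hts, hc⟩ := hpair
  set m := Nat.card {t : X // orderOf t = 2}
  by_cases h2 : Cfsg.pCore 2 X = ⊥
  · obtain ⟨M, hDM, hM⟩ := exists_maximal_ge_of_wellFoundedGT
      (fun M : Subgroup X => Odd (Nat.card M)) D hD
    have hMtr : InvTrans M := fun a b ha hb => by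
      obtain ⟨d, hd, he⟩ := htr a b ha hb
      exact ⟨d, hDM hd, he⟩
    obtain ⟨r, hr, hr2, R, hRM, hR, hno⟩ := hA X hO h2 ⟨t, s, ht, hs, hts, hc⟩ hSE M
      hM.prop (fun M' hle hodd => le_antisymm (hM.le_of_ge hodd hle) hle) hMtr
    haveI := Fact.mk hr
    refine ⟨r, hr, hr2, fun v R' hv hR' hvR' => ?_, fun v Q hv hQ hvQ => ?_⟩
    · obtain ⟨g, -, hg⟩ := hR'.exists_conj hR
      exact hno _ (invol_conj hv g) (hg ▸ conj_mem_normalizer_of_mem hvR')
    set C := centralizer ({v} : Set X) with hC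
    set E := M ⊓ conjBy v M with hE
    have hCE : C ⊓ E = C ⊓ M := by
      refine le_antisymm (inf_le_inf_left _ inf_le_left) (le_inf inf_le_left (le_inf inf_le_right ?_))
      rintro y ⟨hyC, hyM⟩
      refine ⟨y, hyM, ?_⟩
      show v * y * v⁻¹ = y
      rw [← mem_centralizer_singleton_iff.1 hyC, mul_inv_cancel_right]
    have hvE : v ∈ normalizer (E : Set X) := by
      rw [← CfsgLib.Coprime.conjBy_eq_self_iff, hE, conjBy,
        Subgroup.map_inf _ _ _ (MulAut.conj v).injective]
      change conjBy v M ⊓ conjBy v (conjBy v M) = _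
      rw [CfsgLib.Coprime.conjBy_conjBy, invol_mul_self hv, CfsgLib.Coprime.conjBy_one, inf_comm]
    have hEodd : Odd (Nat.card E) := hM.prop.of_dvd_nat (card_dvd_of_le inf_le_left)
    have hQE : Q ≤ E := le_inf (hQ.1.trans hDM)
      ((CfsgLib.Coprime.conjBy_eq_self_iff.2 hvQ).ge.trans (map_mono (hQ.1.trans hDM)))
    obtain ⟨P0, hP0, hQP0, hvP0⟩ := CfsgLib.Coprime.le_invariant_sylow (zpowers_le.2 hvE)
      (coprime_zpowers hv hEodd) (Or.inl (isSolvable_zpowers v)) hQE hQ.isPGroup (zpowers_le.2 hvQ)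
    replace hvP0 := hvP0 (mem_zpowers v)
    have hP0M : IsSylowIn r P0 M := by
      refine ⟨hP0.1.trans inf_le_left,
        le_antisymm (isPGroup_card_le hP0.isPGroup (hP0.1.trans inf_le_left)) ?_⟩
      rw [hP0.2]
      change rPart r (Nat.card M) ≤ rPart r (Nat.card E)
      rw [rPart_card_eq r C M, rPart_card_eq r C E, hCE]
      refine Nat.mul_le_mul_right _ ?_
      calc rPart r (C.relIndex M) = rPart r (C.relIndex D) := by
            rw [invTrans_relIndex hMtr hv, invTrans_relIndex htr hv]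
        _ ≤ C.relIndex Q := rPart_relIndex_le hQ
        _ ≤ C.relIndex P0 := relIndex_le_of_le hQP0
        _ = rPart r (C.relIndex E) := rPart_relIndex_eq hv hEodd hvE hP0 hvP0
    have hRM' : IsSylowIn r R M := by
      refine ⟨hRM, le_antisymm (isPGroup_card_le hR.isPGroup hRM) ?_⟩
      rw [hR.2]
      exact Nat.pow_le_pow_right hr.pos ((Nat.factorization_le_iff_dvd Nat.card_pos.ne'
        Nat.card_pos.ne').2 (card_dvd_of_le (le_top : M ≤ ⊤)) r)
    obtain ⟨g, -, hg⟩ := hP0M.exists_conj hRM'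
    exact hno _ (invol_conj hv g) (hg ▸ conj_mem_normalizer_of_mem hvP0)
  · -- every involution lies in `O_2(X)`
    haveI : (Cfsg.pCore 2 X).Normal := Subgroup.sSup_normal _ fun _ h => h.1
    haveI : Fact (Nat.Prime 2) := ⟨Nat.prime_two⟩
    obtain ⟨k, hk⟩ := IsPGroup.iff_card.1 (CfsgLib.Coprime.pCore_isPGroup (G := X) 2)
    have heven : Even (Nat.card (Cfsg.pCore 2 X)) := by
      rcases k with _ | k
      · exact absurd ((Subgroup.eq_bot_iff_card _).2 hk) h2
      · rw [hk]; exact (Nat.even_pow.2 ⟨even_two, k.succ_ne_zero⟩)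
    obtain ⟨w, hwO, hw⟩ := CfsgLib.Invol.exists_invol_mem heven
    have hall : ∀ v : X, orderOf v = 2 → v ∈ Cfsg.pCore 2 X := fun v hv => by
      obtain ⟨d, -, rfl⟩ := htr w v hw hv
      exact Subgroup.Normal.conj_mem inferInstance w hwO d
    have hm1 : 1 < m := Finite.one_lt_card_iff_nontrivial.2
      ⟨⟨⟨t, ht⟩, ⟨s, hs⟩, fun e => hts (congrArg Subtype.val e)⟩⟩
    have hmodd : Odd m := by
      rw [show m = (centralizer ({w} : Set X)).relIndex D from (invTrans_relIndex htr hw).symm]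
      exact hD.of_dvd_nat (relIndex_dvd_card _ _)
    set r := m.minFac with hr
    have hrp : r.Prime := Nat.minFac_prime (by omega)
    haveI := Fact.mk hrp
    have hr2 : r ≠ 2 := fun e => by
      have := Nat.minFac_dvd m
      rw [← hr, e] at this
      exact Nat.not_even_iff_odd.2 hmodd (even_iff_two_dvd.2 this)
    have key : ∀ (v : X) (Q K : Subgroup X), orderOf v = 2 → IsSylowIn r Q K →
        (centralizer ({v} : Set X)).relIndex K = m → v ∉ normalizer (Q : Set X) := by
      intro v Q K hv hQ hKm hvQ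
      have hQC : Q ≤ centralizer ({v} : Set X) := by
        intro q hq
        have h1 : q * v * q⁻¹ * v⁻¹ ∈ Cfsg.pCore 2 X :=
          mul_mem (Subgroup.Normal.conj_mem inferInstance v (hall v hv) q) (inv_mem (hall v hv))
        have h2 : q * v * q⁻¹ * v⁻¹ ∈ Q := by
          rw [show q * v * q⁻¹ * v⁻¹ = q * (v * q⁻¹ * v⁻¹) by group]
          exact mul_mem hq ((mem_normalizer_iff.1 hvQ _).1 (inv_mem hq))
        obtain ⟨i, hi⟩ := hQ.isPGroup ⟨_, h2⟩
        obtain ⟨j, hj⟩ := CfsgLib.Coprime.pCore_isPGroup (G := X) 2 ⟨_, h1⟩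
        have h3 := Nat.eq_one_of_dvd_coprimes
          (((Nat.coprime_primes hrp Nat.prime_two).2 hr2).pow i j)
          (orderOf_dvd_of_pow_eq_one (by simpa using congrArg Subtype.val hi))
          (orderOf_dvd_of_pow_eq_one (by simpa using congrArg Subtype.val hj))
        rw [orderOf_eq_one_iff, mul_inv_eq_one, mul_inv_eq_iff_eq_mul] at h3
        exact mem_centralizer_singleton_iff.2 h3
      have h := rPart_relIndex_le (C := centralizer ({v} : Set X)) hQ
      rw [hKm, relIndex_eq_one.2 hQC] at h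
      have : r ≤ rPart r m := by
        rw [rPart]
        exact Nat.le_self_pow (Nat.pos_iff_ne_zero.1
          (hrp.factorization_pos_of_dvd (by omega) (Nat.minFac_dvd m))) r
      have := hrp.two_le
      omega
    refine ⟨r, hrp, hr2, fun v R hv hR => key v R ⊤ hv hR ?_,
      fun v Q hv hQ => key v Q D hv hQ (invTrans_relIndex htr hv)⟩
    exact invTrans_relIndex (fun a b ha hb => by
      obtain ⟨d, -, he⟩ := htr a b ha hb
      exact ⟨d, mem_top d, he⟩) hv

/-- The good prime of an odd subgroup permuting the involutions transitively. -/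
theorem exists_good (hA : MaxOddStatement.{u}) (hind : NoOddBelow.{u} (Nat.card X))
    (hpair : HasPair X) {D : Subgroup X} (hD : Odd (Nat.card D)) (htr : InvTrans D) :
    ∃ r : ℕ, r.Prime ∧ r ≠ 2 ∧
      (∀ (v : X) (R : Subgroup X), orderOf v = 2 → IsSylowIn r R ⊤ → v ∉ normalizer (R : Set X)) ∧
      ∀ (v : X) (Q : Subgroup X), orderOf v = 2 → IsSylowIn r Q D → v ∉ normalizer (Q : Set X) := by
  set K := Cfsg.pPrimeCore 2 X with hK
  haveI : K.Normal := Subgroup.sSup_normal _ fun _ h => h.1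
  have hKodd : Odd (Nat.card K) := Nat.not_even_iff_odd.1 fun h =>
    CfsgLib.Coprime.pPrimeCore_not_dvd (G := X) Nat.prime_two (even_iff_two_dvd.1 h)
  set π := QuotientGroup.mk' K with hπ
  have himg : ∀ v : X, orderOf v = 2 → orderOf (π v) = 2 := fun v hv => by
    refine orderOf_eq_prime (by rw [← map_pow, ← hv, pow_orderOf_eq_one, map_one]) fun h => ?_
    rw [hπ, QuotientGroup.mk'_apply, QuotientGroup.eq_one_iff] at h
    exact Nat.not_even_iff_odd.2 hKodd (CfsgLib.Invol.even_card_of_invol_mem h hv)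
  have hlift : ∀ a : X ⧸ K, orderOf a = 2 → ∃ v : X, orderOf v = 2 ∧ π v = a := by
    intro a ha
    obtain ⟨g, rfl⟩ := QuotientGroup.mk'_surjective K a
    have hg2 : g ^ 2 ∈ K := by
      rw [← QuotientGroup.eq_one_iff, QuotientGroup.mk_pow]
      show (π g) ^ 2 = 1
      rw [← ha, pow_orderOf_eq_one]
    obtain ⟨j, hj⟩ := hKodd
    refine ⟨g ^ Nat.card K, ?_, ?_⟩
    · refine orderOf_eq_prime ?_ fun h => ?_
      · rw [← pow_mul, mul_comm, pow_mul]
        exact congrArg Subtype.val (pow_card_eq_one' (x := (⟨g ^ 2, hg2⟩ : K)))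
      · have h' : π g ^ Nat.card K = 1 := by rw [← map_pow, h, map_one]
        rw [hj, pow_succ, pow_mul, ← ha, pow_orderOf_eq_one, one_pow, one_mul] at h'
        rw [h', orderOf_one] at ha
        exact absurd ha (by decide)
    · rw [map_pow, hj, pow_succ, pow_mul, ← ha, pow_orderOf_eq_one, one_pow, one_mul]
  have hpair' : HasPair (X ⧸ K) := by
    obtain ⟨t, s, ht, hs, hts, hc⟩ := hpair
    refine ⟨π t, π s, himg t ht, himg s hs, fun e => hts ?_, hc.map π⟩
    have h1 : t⁻¹ * s ∈ K := QuotientGroup.eq.1 e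
    have h2 : (t⁻¹ * s) ^ 2 = 1 := by
      rw [invol_inv ht, hc.mul_pow, pow_two, pow_two, invol_mul_self ht, invol_mul_self hs, one_mul]
    have h3 := Nat.eq_one_of_dvd_coprimes (Nat.coprime_two_left.2 hKodd)
      (orderOf_dvd_of_pow_eq_one h2) (orderOf_dvd_natCard K h1)
    rwa [orderOf_eq_one_iff, inv_mul_eq_one] at h3
  have htr' : InvTrans (D.map π) := fun a b ha hb => by
    obtain ⟨v, hv, rfl⟩ := hlift a ha
    obtain ⟨w, hw, rfl⟩ := hlift b hb
    obtain ⟨d, hd, rfl⟩ := htr v w hv hw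
    exact ⟨π d, mem_map_of_mem _ hd, by simp⟩
  have hD' : Odd (Nat.card (D.map π)) := hD.of_dvd_nat (card_map_dvd _ _)
  obtain ⟨r, hr, hr2, h1, h2⟩ := exists_good_of_core hA
    (CfsgLib.Coprime.pPrimeCore_quotient_eq_bot Nat.prime_two) hpair'
    (fun Y hY => hind (X ⧸ K) (Nat.le_of_dvd Nat.card_pos (card_quotient_dvd_card K)) hpair' Y hY _
      hD' htr') hD' htr'
  haveI := Fact.mk hr
  have hnorm : ∀ (v : X) (Q : Subgroup X), v ∈ normalizer (Q : Set X) →
      π v ∈ normalizer ((Q.map π : Subgroup (X ⧸ K)) : Set (X ⧸ K)) :=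
    fun v Q h => le_normalizer_map π ⟨v, h, rfl⟩
  refine ⟨r, hr, hr2, fun v R hv hR hvR => h1 (π v) (R.map π) (himg v hv) ?_ (hnorm v R hvR),
    fun v Q hv hQ hvQ => h2 (π v) (Q.map π) (himg v hv) (isSylowIn_map_hom π hQ) (hnorm v Q hvQ)⟩
  have := isSylowIn_map_hom π hR
  rwa [Subgroup.map_top_of_surjective π (QuotientGroup.mk'_surjective K)] at this

end CfsgLib.Bender
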