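import Cfsg.Agent.Lib.Bender.NoOdd
import Cfsg.Agent.Lib.Bender.Interface

/-!
# Bender's transitivity theorem (given the statement on maximal odd transitive subgroups)
-/

set_option autoImplicit false
set_option linter.style.haveILetI false

namespace CfsgLib.Bender

open Subgroup MulAction
open CfsgLib.Coprime (IsSylowIn conjBy)

universe u

theorem isSylowIn_subgroupOf {G : Type*} [Group G] [Finite G] {r : ℕ} [Fact r.Prime]
    {Q K S : Subgroup G} (h : IsSylowIn r Q K) (hKS : K ≤ S) :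
    IsSylowIn r (Q.subgroupOf S) (K.subgroupOf S) := by
  refine ⟨fun x hx => mem_subgroupOf.2 (h.1 (mem_subgroupOf.1 hx)), ?_⟩
  rw [Nat.card_congr (subgroupOfEquivOfLe (h.1.trans hKS)).toEquiv,
    Nat.card_congr (subgroupOfEquivOfLe hKS).toEquiv, h.2]

variable {G : Type u} [Group G] [Finite G] {H : Subgroup G} (hH : Cfsg.IsStronglyEmbedded H)

include hH in
theorem exists_goodPrime (hA : MaxOddStatement.{u}) (hind : NoOddBelow.{u} (Nat.card G - 1))
    (hpair : HasPair G) :
    ∃ (r : ℕ) (b x : G ⧸ H), r.Prime ∧ r ≠ 2 ∧ b ≠ x ∧ GoodPrime r b x := by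
  obtain ⟨t, s, ht, hs, hts, hc⟩ := hpair
  obtain ⟨b, hb⟩ := exists_fixed hH ht
  have hsb : s • b = b := mem_stabilizer_iff.1 (centralizer_le_stabilizer hH ht hb
    (mem_centralizer_singleton_iff.2 hc.symm.eq))
  obtain ⟨x, hx⟩ : ∃ x : G ⧸ H, b ≠ x := by
    by_contra hcon
    push Not at hcon
    refine hH.1 (eq_top_iff.2 fun g _ => ?_)
    exact CfsgLib.Invol.fixed_one_iff.1 ((hcon _).symm.trans (hcon _))
  set S := stabilizer G b with hS
  set D := (pairStab b x).subgroupOf S with hD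
  have hDodd : Odd (Nat.card D) := by
    rw [hD, Nat.card_congr (subgroupOfEquivOfLe (inf_le_left : pairStab b x ≤ S)).toEquiv]
    exact odd_pairStab hH hx
  have hDtr : InvTrans D := by
    rintro ⟨v, hv⟩ ⟨w, hw⟩ hvo hwo
    rw [← Subgroup.orderOf_coe] at hvo hwo
    obtain ⟨u, -, hu⟩ := exists_swapper hH hx
    obtain ⟨d, -, hdb, hdx, he⟩ := transitive_fixing hH ⊤ (u := u) (mem_top _)
      (by rw [hu]; exact hx.symm) hvo (mem_top _) (mem_stabilizer_iff.1 hv) hwo (mem_top _)
      (mem_stabilizer_iff.1 hw)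
    rw [hu] at hdx
    exact ⟨⟨d, mem_stabilizer_iff.2 hdb⟩,
      ⟨mem_stabilizer_iff.2 hdb, mem_stabilizer_iff.2 hdx⟩, Subtype.ext he⟩
  have hpairS : HasPair S :=
    ⟨⟨t, mem_stabilizer_iff.2 hb⟩, ⟨s, mem_stabilizer_iff.2 hsb⟩, by rwa [← Subgroup.orderOf_coe],
      by rwa [← Subgroup.orderOf_coe], fun e => hts (congrArg Subtype.val e), Subtype.ext hc.eq⟩
  have hlt : Nat.card S < Nat.card G := by
    refine lt_of_le_of_ne (card_le_card_group S) fun h => ?_
    obtain ⟨u, hu, hub⟩ := exists_swapper hH hx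
    have hST : S = ⊤ := eq_of_le_of_card_ge le_top (le_of_eq (Subgroup.card_top.trans h.symm))
    exact hx (((mem_stabilizer_iff.1 (hST ▸ mem_top u : u ∈ S)).symm).trans hub)
  obtain ⟨r, hr, hr2, h1, h2⟩ := exists_good hA
    (fun Y _ _ hY => hind Y (hY.trans (by omega))) hpairS hDodd hDtr
  haveI := Fact.mk hr
  refine ⟨r, b, x, hr, hr2, hx, ⟨fun v R hv hvb hR hvR => ?_, fun v Q hv hvb hQ hvQ => ?_⟩⟩
  · refine h1 ⟨v, mem_stabilizer_iff.2 hvb⟩ (R.subgroupOf S) (by rwa [← Subgroup.orderOf_coe]) ?_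
      (mem_normalizer_iff.2 fun z => mem_normalizer_iff.1 hvR (z : G))
    have := isSylowIn_subgroupOf hR (le_refl S)
    rwa [subgroupOf_self] at this
  · exact h2 ⟨v, mem_stabilizer_iff.2 hvb⟩ (Q.subgroupOf S) (by rwa [← Subgroup.orderOf_coe])
      (isSylowIn_subgroupOf hQ inf_le_left)
      (mem_normalizer_iff.2 fun z => mem_normalizer_iff.1 hvQ (z : G))

theorem noOddBelow (hA : MaxOddStatement.{u}) (n : ℕ) : NoOddBelow.{u} n := by
  induction n with
  | zero => intro X _ _ h; exact absurd Nat.card_pos (not_lt.2 h)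
  | succ n ih =>
    intro X _ _ hX hpair Y hY M hM htr
    obtain ⟨r, b, x, hr, hr2, hbx, hg⟩ := exists_goodPrime hY hA
      (fun Z _ _ hZ => ih Z (hZ.trans (by omega))) hpair
    haveI := Fact.mk hr
    exact hg.false_of_odd hY hr2 hbx hM htr

include hH in
/-- Bender: `G` is doubly transitive on the cosets of a strongly embedded subgroup if two distinct
involutions commute. -/
theorem transitive_of_pair (hA : MaxOddStatement.{u}) (hpair : HasPair G) {a c d : G ⧸ H}
    (hac : a ≠ c) (had : a ≠ d) : ∃ k ∈ stabilizer G a, k • c = d := by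
  obtain ⟨r, b, x, hr, hr2, hbx, hg⟩ := exists_goodPrime hH hA (noOddBelow hA _) hpair
  haveI := Fact.mk hr
  exact hg.transitive hH hr2 hbx hac had

end CfsgLib.Bender
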