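import Cfsg.Agent.Lib.Bender.Steps

/-!
# No odd subgroup permutes transitively the involutions of a group with a strongly embedded subgroup
-/

set_option autoImplicit false
set_option linter.style.haveILetI false

namespace CfsgLib.Bender

open Subgroup MulAction
open CfsgLib.Coprime (IsSylowIn conjBy)
open CfsgLib.Invol (fixed_unique invol_conj invol_smul_smul invol_inv invol_mul_self)

universe u

variable {G : Type u} [Group G] [Finite G] {H : Subgroup G} {r : ℕ} [hr : Fact r.Prime]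
  (hH : Cfsg.IsStronglyEmbedded H) {b x : G ⧸ H}

include hH hr in
theorem GoodPrime.false_of_odd (h : GoodPrime r b x) (hr2 : r ≠ 2) (hbx : b ≠ x) {M : Subgroup G}
    (hM : Odd (Nat.card M)) (htr : InvTrans M) : False := by
  classical
  set Mc : G ⧸ H → Subgroup G := fun a => M ⊓ stabilizer G a with hMc
  have hptrans : ∀ a c : G ⧸ H, ∃ m ∈ M, m • a = c := by
    intro a c
    obtain ⟨t, ht, hta⟩ := CfsgLib.Invol.exists_invol_fixing hH a
    obtain ⟨s, hs, hsc⟩ := CfsgLib.Invol.exists_invol_fixing hH c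
    obtain ⟨m, hm, rfl⟩ := htr t s ht hs
    exact ⟨m, hm, fixed_unique hH (invol_conj ht m) (CfsgLib.Invol.conj_fixes.2 hta) hsc⟩
  have hMi : ∀ (a : G ⧸ H) (u : G), orderOf u = 2 → u • a = a →
      (centralizer ({u} : Set G)).relIndex (Mc a) = numInv H := by
    intro a u hu hua
    rw [numInv, ← CfsgLib.Invol.card_fixing_eq hH a]
    refine relIndex_eq_card ⟨hu, hua⟩ (fun d hd => ⟨invol_conj hu d, ?_⟩) fun v hv => ?_
    · rw [mul_smul, mul_smul, mem_stabilizer_iff.1 (inv_mem hd.2), hua, mem_stabilizer_iff.1 hd.2]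
    · obtain ⟨m, hm, rfl⟩ := htr u v hu hv.1
      exact ⟨m, ⟨hm, mem_stabilizer_iff.2 (fixed_unique hH (invol_conj hu m)
        (CfsgLib.Invol.conj_fixes.2 hua) hv.2)⟩, rfl⟩
  have hMcard : ∀ a c : G ⧸ H, Nat.card (Mc a) = Nat.card (Mc c) := by
    intro a c
    obtain ⟨m, hm, rfl⟩ := hptrans a c
    have he : conjBy m (Mc a) = Mc (m • a) := by
      simp only [hMc, conjBy]
      rw [Subgroup.map_inf _ _ _ (MulAut.conj m).injective,
        stabilizer_smul_eq_stabilizer_map_conj]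
      congr 1
      exact CfsgLib.Coprime.conjBy_eq_self_iff.2 (le_normalizer hm)
    rw [← he, CfsgLib.Coprime.card_conjBy]
  obtain ⟨T, hT, -⟩ := exists_sylowIn_ge (K := Mc b) (P := ⊥) (IsPGroup.of_bot (p := r)) bot_le
  set F0 := fixSet T H with hF0
  have hbF : b ∈ F0 := hT.1.trans inf_le_right
  have hTsyl : ∀ a ∈ F0, IsSylowIn r T (Mc a) := fun a ha =>
    ⟨le_inf (hT.1.trans inf_le_left) ha, by rw [hT.2, hMcard b a]⟩
  -- `N_M(T)` is transitive on `F0`, so `|F0|` is odd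
  set N := M ⊓ normalizer (T : Set G) with hN
  have horb : MulAction.orbit N b = F0 := by
    ext a
    constructor
    · rintro ⟨⟨n, hn⟩, rfl⟩
      exact smul_mem_fixSet hn.2 hbF
    · intro ha
      obtain ⟨m, hm, hma⟩ := hptrans b a
      have h1 : IsSylowIn r (conjBy m T) (Mc a) := by
        refine ⟨le_inf ?_ (hma ▸ conjBy_le_stabilizer m hbF), ?_⟩
        · exact (map_mono (hT.1.trans inf_le_left)).trans
            (CfsgLib.Coprime.conjBy_eq_self_iff.2 (le_normalizer hm)).le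
        · rw [CfsgLib.Coprime.card_conjBy, hT.2, hMcard b a]
      obtain ⟨k, hk, hkT⟩ := h1.exists_conj (hTsyl a ha)
      rw [CfsgLib.Coprime.conjBy_conjBy] at hkT
      refine ⟨⟨k * m, mul_mem hk.1 hm, CfsgLib.Coprime.conjBy_eq_self_iff.1 hkT⟩, ?_⟩
      show (k * m) • b = a
      rw [mul_smul, hma, mem_stabilizer_iff.1 hk.2]
  have hodd : Odd (Nat.card F0) := by
    rw [← horb, Nat.card_congr (MulAction.orbitEquivQuotientStabilizer N b)]
    exact (hM.of_dvd_nat (card_dvd_of_le (inf_le_left : N ≤ M))).of_dvd_nat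
      (index_dvd_card (stabilizer N b))
  -- three fixed points
  obtain ⟨z, hz, hzb⟩ := h.two_fixed hH hr2 hbx hT.isPGroup hbF
  have h3 : ∃ P : Subgroup G, IsPGroup r P ∧ T ≤ P ∧ 2 < (fixSet P H).ncard := by
    refine ⟨T, hT.isPGroup, le_rfl, ?_⟩
    have h2 : 1 < F0.ncard := (Set.one_lt_ncard_iff (Set.toFinite _)).2 ⟨z, b, hz, hbF, hzb⟩
    rw [Nat.card_coe_set_eq] at hodd
    obtain ⟨j, hj⟩ := hodd
    change 2 < F0.ncard
    omega
  obtain ⟨P, ⟨hP, hTP, hP3⟩, hmax⟩ : ∃ P : Subgroup G,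
      (IsPGroup r P ∧ T ≤ P ∧ 2 < (fixSet P H).ncard) ∧
      ∀ Q : Subgroup G, IsPGroup r Q → P ≤ Q → 2 < (fixSet Q H).ncard → Q ≤ P := by
    obtain ⟨P0, hP0⟩ := h3
    obtain ⟨P, -, hP⟩ := exists_maximal_ge_of_wellFoundedGT
      (fun P : Subgroup G => IsPGroup r P ∧ T ≤ P ∧ 2 < (fixSet P H).ncard) P0 hP0
    exact ⟨P, hP.prop, fun Q hQ hPQ h => hP.le_of_ge ⟨hQ, hP.prop.2.1.trans hPQ, h⟩ hPQ⟩
  set L := normalizer (P : Set G) with hL
  set F := fixSet P H with hF
  have hFF0 : F ⊆ F0 := fun a ha => hTP.trans ha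
  -- for distinct `a, c` in `F`: a Sylow subgroup of `L_a` fixing exactly `a` and `c`
  have hsyl : ∀ a ∈ F, ∀ c ∈ F, a ≠ c → ∃ S : Subgroup G, IsSylowIn r S (L ⊓ stabilizer G a) ∧
      c ∈ fixSet S H ∧ ∀ d ∈ fixSet S H, d = a ∨ d = c := by
    intro a ha c hc hac
    obtain ⟨R, hR, hPR⟩ := exists_sylowIn_ge (K := pairStab a c) hP (le_inf ha hc)
    obtain ⟨hRs, hR2⟩ := h.pair_full hH hr2 hbx hac hR
    have hne : ¬ R ≤ P := fun hle => by
      obtain rfl := le_antisymm hle hPR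
      obtain ⟨e, f, g, he, hf, hg, hef, heg, hfg⟩ := (Set.two_lt_ncard_iff (Set.toFinite _)).1 hP3
      rcases hR2 e he with rfl | rfl <;> rcases hR2 f hf with rfl | rfl <;>
        rcases hR2 g hg with rfl | rfl <;> simp_all
    obtain ⟨y, hyR, hyN, hyP⟩ := CfsgLib.Invol.exists_mem_normalizer_notMem hR.isPGroup hPR hne
    set Q1 := R ⊓ L
    obtain ⟨S, hS, hQS⟩ := exists_sylowIn_ge (r := r) (K := L ⊓ stabilizer G a) (P := Q1)
      (hR.isPGroup.to_le inf_le_left) (le_inf inf_le_right (inf_le_left.trans (hR.1.trans inf_le_left)))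
    have hPS : P ≤ S := (le_inf hPR le_normalizer).trans hQS
    have hS2 : ¬ 2 < (fixSet S H).ncard := fun h2 => hyP
      (hmax S hS.isPGroup hPS h2 (hQS ⟨hyR, hyN⟩))
    have haS : a ∈ fixSet S H := hS.1.trans inf_le_right
    obtain ⟨d, hd, hda⟩ := h.two_fixed hH hr2 hbx hS.isPGroup haS
    have hfix : ∀ e ∈ fixSet S H, e = a ∨ e = d := fun e he => by
      by_contra hcon
      push Not at hcon
      exact hS2 ((Set.two_lt_ncard_iff (Set.toFinite _)).2
        ⟨e, a, d, he, haS, hd, hcon.1, hcon.2, hda.symm⟩)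
    have hcd : d = c := by
      have hdF : d ∈ fixSet Q1 H := hQS.trans hd
      by_contra hdc
      refine hyP (hmax Q1 (hR.isPGroup.to_le inf_le_left) (le_inf hPR le_normalizer) ?_ ⟨hyR, hyN⟩)
      exact (Set.two_lt_ncard_iff (Set.toFinite _)).2 ⟨d, a, c, hdF, hQS.trans haS,
        inf_le_left.trans (hR.1.trans inf_le_right), hda, hdc, hac⟩
    subst hcd
    exact ⟨S, hS, hd, hfix⟩
  have htrans1 : ∀ a ∈ F, ∀ c ∈ F, ∀ d ∈ F, a ≠ c → a ≠ d →
      ∃ l ∈ L, l • a = a ∧ l • c = d := by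
    intro a ha c hc d hd hac had
    obtain ⟨S, hS, hSc, -⟩ := hsyl a ha c hc hac
    obtain ⟨S', hS', -, hS'2⟩ := hsyl a ha d hd had
    obtain ⟨k, hk, hkS⟩ := hS.exists_conj hS'
    have hka : k • a = a := mem_stabilizer_iff.1 hk.2
    refine ⟨k, hk.1, hka, ?_⟩
    rcases hS'2 _ (hkS ▸ conjBy_le_stabilizer k hSc : k • c ∈ fixSet S' H) with e | e
    · exact absurd (smul_left_cancel k (e.trans hka.symm)) hac.symm
    · exact e
  obtain ⟨e₁, e₂, e₃, he₁, he₂, he₃, h12, h13, h23⟩ := (Set.two_lt_ncard_iff (Set.toFinite _)).1 hP3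
  -- any two points are interchanged by an element of `L`
  have hswap : ∀ a ∈ F, ∀ c ∈ F, a ≠ c → ∃ l ∈ L, l • a = c ∧ l • c = a := by
    intro a ha c hc hac
    obtain ⟨w, hw, hwa, hwc⟩ : ∃ w ∈ F, w ≠ a ∧ w ≠ c := by
      by_contra hcon
      push Not at hcon
      have k1 := hcon e₁ he₁
      have k2 := hcon e₂ he₂
      have k3 := hcon e₃ he₃
      by_cases q1 : e₁ = a <;> by_cases q2 : e₂ = a <;> by_cases q3 : e₃ = a <;> simp_all
    obtain ⟨g1, hg1, hg1w, hg1a⟩ := htrans1 w hw a ha c hc hwa hwc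
    -- `g1` maps `a` to `c`; correct it to map `c` to `a`
    have hg1c : g1 • c ∈ F := smul_mem_fixSet hg1 hc
    have hne : c ≠ g1 • c := fun e => hac (smul_left_cancel g1 (hg1a.trans e))
    obtain ⟨g2, hg2, hg2c, hg2a⟩ := htrans1 c hc (g1 • c) hg1c a ha hne hac.symm
    exact ⟨g2 * g1, mul_mem hg2 hg1, by rw [mul_smul, hg1a, hg2c], by rw [mul_smul, hg2a]⟩
  -- an involution of `L` fixes no point of `F`
  have hfree : ∀ v ∈ L, orderOf v = 2 → ∀ a ∈ F, v • a ≠ a := by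
    intro v hvL hv c hc hvc
    obtain ⟨y, hy, hyc⟩ : ∃ y ∈ F, y ≠ c := by
      by_contra hcon
      push Not at hcon
      exact h12 ((hcon e₁ he₁).trans (hcon e₂ he₂).symm)
    refine h.no_bad hH hr2 hbx hP hv hvL ?_ hyc.symm hc hy hvc
    refine le_trans ?_ (relIndex_le_of_le hTP)
    rw [← hMi c v hv hvc]
    exact rPart_relIndex_le (hTsyl c (hFF0 hc))
  refine no_three (L := L) ?_ (fun g hg a ha => smul_mem_fixSet hg ha) hfree ?_ he₁ he₂ he₃ h12 h13 h23
  · intro v hv w hw hvo hwo hvw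
    by_contra hne
    obtain ⟨e, he, hve, -⟩ := exists_fixed_of_pair hH (odd_card_of_isPGroup hr2 hP)
      hvo hwo hne hvw hv hw
    exact hfree v hv hvo e he hve
  · intro a ha c hc hac
    obtain ⟨l, hl, hla, hlc⟩ := hswap a ha c hc hac
    -- the 2-part of `l`
    have hl2 : (l ^ 2) • a = a := by rw [pow_two, mul_smul, hla, hlc]
    have hl2' : (l ^ 2) • c = c := by rw [pow_two, mul_smul, hlc, hla]
    obtain ⟨k, w, hw, hkw⟩ := Nat.exists_eq_two_pow_mul_odd (orderOf_pos l).ne'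
    set g := l ^ w with hg
    have hgo : orderOf g = 2 ^ k := by
      rw [hg, orderOf_pow, hkw, Nat.gcd_eq_right (dvd_mul_left w _), Nat.mul_div_cancel _ hw.pos]
    obtain ⟨j, hj⟩ := hw
    have hfix2 : ∀ (n : ℕ) (p : G ⧸ H), (l ^ 2) • p = p → (l ^ 2) ^ n • p = p := fun n p hp =>
      mem_stabilizer_iff.1 (pow_mem (mem_stabilizer_iff.2 hp : l ^ 2 ∈ stabilizer G p) n)
    have hga : g • a = c := by
      rw [hg, hj, pow_succ', mul_smul, pow_mul, hfix2 j a hl2, hla]
    have hk1 : k = 1 := by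
      rcases k with _ | _ | k
      · rw [pow_zero, orderOf_eq_one_iff] at hgo
        exact absurd (by rw [← hga, hgo, one_smul]) hac
      · rfl
      · have hz : orderOf (g ^ 2 ^ (k + 1)) = 2 := by
          rw [orderOf_pow, hgo, Nat.gcd_eq_right (pow_dvd_pow 2 (by omega)),
            show k + 1 + 1 = (k + 1) + 1 from rfl, pow_succ, Nat.mul_div_cancel_left _ (by positivity)]
        refine absurd ?_ (hfree _ (pow_mem (pow_mem hl _) _) hz a ha)
        rw [← pow_mul, show w * 2 ^ (k + 1) = 2 * (w * 2 ^ k) by ring, pow_mul]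
        exact hfix2 _ a hl2
    exact ⟨g, pow_mem hl _, by rw [hgo, hk1, pow_one], hga⟩

end CfsgLib.Bender
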