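import Cfsg.Agent.Lib.Bender.Count
import Cfsg.Agent.Lib.Bender.Defs
import Cfsg.Agent.Lib.Invol.SEFixed

/-!
# Bender's transitivity theorem: points, pairs, swapping involutions

`Ω = G ⧸ H` for a strongly embedded subgroup `H`.
-/

set_option autoImplicit false
set_option linter.style.haveILetI false

namespace CfsgLib.Bender

open Subgroup MulAction
open CfsgLib.Coprime (IsSylowIn conjBy)
open CfsgLib.Invol (fixed_unique invol_conj invol_smul_smul)

/-- Bijection count for a transitive conjugation orbit. -/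
theorem relIndex_eq_card {G : Type*} [Group G] [Finite G] {D : Subgroup G} {u : G} {p : G → Prop}
    (hu : p u) (hclosed : ∀ d ∈ D, p (d * u * d⁻¹)) (htr : ∀ v, p v → ∃ d ∈ D, d * u * d⁻¹ = v) :
    (centralizer ({u} : Set G)).relIndex D = Nat.card {v : G // p v} := by
  have key : ∀ d e : D, d⁻¹ * e ∈ (centralizer ({u} : Set G)).subgroupOf D ↔
      (d : G) * u * (d : G)⁻¹ = (e : G) * u * (e : G)⁻¹ := by
    intro d e
    rw [mem_subgroupOf, mem_centralizer_singleton_iff]
    simp only [coe_mul, coe_inv]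
    constructor
    · intro h
      calc (d : G) * u * (d : G)⁻¹ = d * (u * ((d : G)⁻¹ * e)) * (e : G)⁻¹ := by group
        _ = d * (((d : G)⁻¹ * e) * u) * (e : G)⁻¹ := by rw [h]
        _ = (e : G) * u * (e : G)⁻¹ := by group
    · intro h
      calc (d : G)⁻¹ * e * u = (d : G)⁻¹ * (e * u * (e : G)⁻¹) * e := by group
        _ = (d : G)⁻¹ * (d * u * (d : G)⁻¹) * e := by rw [h]
        _ = u * ((d : G)⁻¹ * e) := by group
  let f : D ⧸ (centralizer ({u} : Set G)).subgroupOf D → {v : G // p v} :=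
    Quotient.lift (fun d : D => ⟨(d : G) * u * (d : G)⁻¹, hclosed d d.2⟩)
      fun d e h => Subtype.ext ((key d e).1 (QuotientGroup.leftRel_apply.1 h))
  refine Nat.card_congr (Equiv.ofBijective f ⟨?_, ?_⟩)
  · rintro ⟨d⟩ ⟨e⟩ h
    exact QuotientGroup.eq.2 ((key d e).2 (congrArg Subtype.val h))
  · rintro ⟨v, hv⟩
    obtain ⟨d, hd, h⟩ := htr v hv
    exact ⟨QuotientGroup.mk ⟨d, hd⟩, Subtype.ext h⟩

universe u

variable {G : Type u} [Group G] [Finite G] {H : Subgroup G}

/-- The stabilizer of two points. -/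
abbrev pairStab (a b : G ⧸ H) : Subgroup G := stabilizer G a ⊓ stabilizer G b

/-- The number of involutions fixing a point. -/
noncomputable def numInv (H : Subgroup G) : ℕ := Nat.card {t : G // orderOf t = 2 ∧ t ∈ H}

/-- The points fixed by a subgroup. -/
def fixSet (P : Subgroup G) (H : Subgroup G) : Set (G ⧸ H) := {a | P ≤ stabilizer G a}

omit [Finite G] in
theorem smul_eq_of_mem {P : Subgroup G} {a : G ⧸ H} (ha : a ∈ fixSet P H) {x : G} (hx : x ∈ P) :
    x • a = a := mem_stabilizer_iff.1 (ha hx)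

omit [Finite G] in
theorem smul_mem_fixSet {P : Subgroup G} {a : G ⧸ H} {g : G} (hg : g ∈ normalizer (P : Set G))
    (ha : a ∈ fixSet P H) : g • a ∈ fixSet P H := by
  intro x hx
  rw [mem_stabilizer_iff]
  have h := smul_eq_of_mem ha ((mem_normalizer_iff''.1 hg x).1 hx)
  rwa [mul_smul, mul_smul, inv_smul_eq_iff] at h

omit [Finite G] in
theorem conjBy_le_stabilizer {P : Subgroup G} {a : G ⧸ H} (g : G) (h : P ≤ stabilizer G a) :
    conjBy g P ≤ stabilizer G (g • a) := by
  rintro _ ⟨x, hx, rfl⟩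
  show g * x * g⁻¹ ∈ stabilizer G (g • a)
  rw [mem_stabilizer_iff, smul_smul, inv_mul_cancel_right, mul_smul, mem_stabilizer_iff.1 (h hx)]

variable (hH : Cfsg.IsStronglyEmbedded H)

include hH in
theorem exists_fixed {t : G} (ht : orderOf t = 2) : ∃ a : G ⧸ H, t • a = a := by
  obtain ⟨s, hsH, hs⟩ := CfsgLib.Invol.exists_invol_mem hH.2.1
  obtain ⟨g, rfl⟩ := isConj_iff.1 (CfsgLib.Invol.exists_conj_fixing hH hs ht)
  exact ⟨g • ((1 : G) : G ⧸ H),
    CfsgLib.Invol.conj_fixes.2 (CfsgLib.Invol.fixed_one_iff.2 hsH)⟩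

include hH in
theorem centralizer_le_stabilizer {t : G} (ht : orderOf t = 2) {c : G ⧸ H} (hc : t • c = c) :
    centralizer ({t} : Set G) ≤ stabilizer G c := by
  intro x hx
  refine mem_stabilizer_iff.2 (fixed_unique hH ht ?_ hc)
  rw [smul_smul, ← mem_centralizer_singleton_iff.1 hx, mul_smul, hc]

include hH in
/-- The involutions of `K` fixing `a` are conjugate under `K ∩ G_a ∩ G_{ua}`. -/
theorem transitive_fixing (K : Subgroup G) {a : G ⧸ H} {u : G} (huK : u ∈ K)
    (hua : u • a ≠ a) {s t : G} (hs : orderOf s = 2) (hsK : s ∈ K) (hsa : s • a = a)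
    (ht : orderOf t = 2) (htK : t ∈ K) (hta : t • a = a) :
    ∃ d ∈ K, d • a = a ∧ d • (u • a) = u • a ∧ d * s * d⁻¹ = t := by
  set S := (stabilizer G a).subgroupOf K with hS
  have hmem : ∀ x : K, x ∈ S ↔ (x : G) • a = a := fun x => Iff.rfl
  have hSE : Cfsg.IsStronglyEmbedded S := by
    refine (CfsgLib.Invol.stronglyEmbedded_iff (fun h => hua ((hmem ⟨u, huK⟩).1 (by rw [h]; exact mem_top _)))
      (CfsgLib.Invol.even_card_of_invol_mem (t := (⟨s, hsK⟩ : K)) ((hmem _).2 hsa)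
        (by rwa [← Subgroup.orderOf_coe]))).2 fun x hx hxo g hg => ?_
    rw [hmem] at hx hg ⊢
    rw [← Subgroup.orderOf_coe] at hxo
    simp only [coe_mul, coe_inv] at hg
    exact fixed_unique hH (invol_conj hxo (g : G)) (CfsgLib.Invol.conj_fixes.2 hx) hg
  obtain ⟨d, ⟨hd1, hd2⟩, hd⟩ := CfsgLib.Invol.transitive_two_point hSE (u := (⟨u, huK⟩ : K))
    (s := ⟨s, hsK⟩) (t := ⟨t, htK⟩) (by rwa [← Subgroup.orderOf_coe]) ((hmem _).2 hsa)
    ((hmem _).2 hta) (by rwa [← Subgroup.orderOf_coe])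
  refine ⟨d, d.2, (hmem d).1 hd1, ?_, congrArg Subtype.val hd⟩
  obtain ⟨e, he, rfl⟩ := hd2
  show (u * (e : G) * u⁻¹) • (u • a) = u • a
  rw [smul_smul, inv_mul_cancel_right, mul_smul, (hmem e).1 he]

include hH in
theorem exists_swapper {a b : G ⧸ H} (hab : a ≠ b) : ∃ v : G, orderOf v = 2 ∧ v • a = b := by
  obtain ⟨t, htH, ht⟩ := CfsgLib.Invol.exists_invol_mem hH.2.1
  have h : 0 < Nat.card {i : G // orderOf i = 2 ∧ i • a = b} := by
    rw [CfsgLib.Invol.card_swap_eq hH a b hab]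
    exact Nat.card_pos_iff.2 ⟨⟨⟨t, ht, htH⟩⟩, inferInstance⟩
  obtain ⟨⟨v, hv⟩⟩ := (Nat.card_pos_iff.1 h).1
  exact ⟨v, hv⟩

theorem mem_normalizer_pairStab {v : G} (hv : orderOf v = 2) {a b : G ⧸ H} (hva : v • a = b) :
    v ∈ normalizer (pairStab a b : Set G) := by
  have hvb : v • b = a := by rw [← hva, invol_smul_smul hv]
  have key : ∀ x ∈ pairStab a b, v * x * v⁻¹ ∈ pairStab a b := by
    rintro x ⟨hxa, hxb⟩
    refine ⟨?_, ?_⟩
    · have := conjBy_le_stabilizer (P := stabilizer G b) v le_rfl ⟨x, hxb, rfl⟩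
      rwa [hvb] at this
    · have := conjBy_le_stabilizer (P := stabilizer G a) v le_rfl ⟨x, hxa, rfl⟩
      rwa [hva] at this
  refine mem_normalizer_iff.2 fun x => ⟨key x, fun h => ?_⟩
  have := key _ h
  rw [CfsgLib.Invol.invol_inv hv] at this
  simpa [mul_assoc, CfsgLib.Invol.invol_mul_self hv,
    show ∀ y, v * (v * y) = y from fun y => by rw [← mul_assoc, CfsgLib.Invol.invol_mul_self hv,
      one_mul]] using this

include hH in
theorem odd_pairStab {a b : G ⧸ H} (hab : a ≠ b) : Odd (Nat.card (pairStab a b)) := by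
  by_contra h
  obtain ⟨t, ht, hto⟩ := CfsgLib.Invol.exists_invol_mem (Nat.not_odd_iff_even.1 h)
  exact hab (fixed_unique hH hto (mem_stabilizer_iff.1 ht.1) (mem_stabilizer_iff.1 ht.2))

include hH in
theorem relIndex_swap {x y : G ⧸ H} (hxy : x ≠ y) {u : G} (hu : orderOf u = 2) (hux : u • x = y) :
    (centralizer ({u} : Set G)).relIndex (pairStab x y) = numInv H := by
  rw [numInv, ← CfsgLib.Invol.card_swap_eq hH x y hxy]
  refine relIndex_eq_card ⟨hu, hux⟩ (fun d hd => ⟨invol_conj hu d, ?_⟩) fun v hv => ?_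
  · have hdx : d⁻¹ • x = x := mem_stabilizer_iff.1 (inv_mem hd.1)
    rw [mul_smul, mul_smul, hdx, hux, mem_stabilizer_iff.1 hd.2]
  · obtain ⟨d, hdx, hdy, h⟩ := CfsgLib.Invol.swap_conj hH hxy hu hv.1 hux hv.2
    exact ⟨d, ⟨mem_stabilizer_iff.2 hdx, mem_stabilizer_iff.2 hdy⟩, h⟩

include hH in
theorem relIndex_fix {c x : G ⧸ H} (hcx : c ≠ x) {u : G} (hu : orderOf u = 2) (huc : u • c = c) :
    (centralizer ({u} : Set G)).relIndex (pairStab c x) = numInv H := by
  rw [numInv, ← CfsgLib.Invol.card_fixing_eq hH c]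
  refine relIndex_eq_card ⟨hu, huc⟩ (fun d hd => ⟨invol_conj hu d, ?_⟩) fun v hv => ?_
  · have hdc : d⁻¹ • c = c := mem_stabilizer_iff.1 (inv_mem hd.1)
    rw [mul_smul, mul_smul, hdc, huc, mem_stabilizer_iff.1 hd.1]
  · obtain ⟨w, -, hwc⟩ := exists_swapper hH hcx
    obtain ⟨d, -, hdc, hdx, h⟩ := transitive_fixing hH ⊤ (u := w) (mem_top _) (by rwa [hwc, ne_comm])
      hu (mem_top _) huc hv.1 (mem_top _) hv.2
    rw [hwc] at hdx
    exact ⟨d, ⟨mem_stabilizer_iff.2 hdc, mem_stabilizer_iff.2 hdx⟩, h⟩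

variable {r : ℕ} [hr : Fact r.Prime]

include hH in
theorem rPart_pairStab_eq {c x : G ⧸ H} (hcx : c ≠ x) {u : G} (hu : orderOf u = 2)
    (huc : u • c = c) :
    rPart r (Nat.card (pairStab c x)) = rPart r (Nat.card (pairStab x (u • x))) := by
  have hne : x ≠ u • x := fun h => hcx (fixed_unique hH hu huc h.symm)
  rw [rPart_card_eq r (centralizer ({u} : Set G)) (pairStab c x),
    rPart_card_eq r (centralizer ({u} : Set G)) (pairStab x (u • x)),
    relIndex_fix hH hcx hu huc, relIndex_swap hH hne hu rfl]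
  congr 4
  ext g
  simp only [mem_inf, mem_stabilizer_iff]
  constructor
  · rintro ⟨hg, -, hgx⟩
    refine ⟨hg, hgx, ?_⟩
    rw [smul_smul, mem_centralizer_singleton_iff.1 hg, mul_smul, hgx]
  · rintro ⟨hg, hgx, -⟩
    exact ⟨hg, mem_stabilizer_iff.1 (centralizer_le_stabilizer hH hu huc hg), hgx⟩

include hH hr in
/-- An invariant `r`-subgroup of a pair lies in an invariant Sylow subgroup of the pair. -/
theorem exists_pair_sylow {x y : G ⧸ H} (hxy : x ≠ y) {u : G} (hu : orderOf u = 2)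
    (hux : u • x = y) {P : Subgroup G} (hP : IsPGroup r P) (hPD : P ≤ pairStab x y)
    (huP : u ∈ normalizer (P : Set G)) :
    ∃ Q : Subgroup G, IsSylowIn r Q (pairStab x y) ∧ P ≤ Q ∧ u ∈ normalizer (Q : Set G) ∧
      (centralizer ({u} : Set G)).relIndex Q = rPart r (numInv H) := by
  obtain ⟨Q, hQ, hPQ, huQ⟩ := CfsgLib.Coprime.le_invariant_sylow
    (zpowers_le.2 (mem_normalizer_pairStab hu hux)) (coprime_zpowers hu (odd_pairStab hH hxy))
    (Or.inl (isSolvable_zpowers u)) hPD hP (zpowers_le.2 huP)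
  refine ⟨Q, hQ, hPQ, huQ (mem_zpowers u), ?_⟩
  rw [rPart_relIndex_eq hu (odd_pairStab hH hxy) (mem_normalizer_pairStab hu hux) hQ
    (huQ (mem_zpowers u)), relIndex_swap hH hxy hu hux]

include hH hr in
/-- Every Sylow subgroup of a pair is normalized by a swapping involution. -/
theorem exists_swapper_normalizing {x y : G ⧸ H} (hxy : x ≠ y) {P : Subgroup G}
    (hP : IsSylowIn r P (pairStab x y)) :
    ∃ v : G, orderOf v = 2 ∧ v • x = y ∧ v ∈ normalizer (P : Set G) := by
  obtain ⟨u, hu, hux⟩ := exists_swapper hH hxy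
  obtain ⟨Q, hQ, -, huQ, -⟩ := exists_pair_sylow hH (r := r) hxy hu hux (IsPGroup.of_bot) bot_le
    (by rw [normalizer_eq_top]; exact mem_top u)
  obtain ⟨d, hd, rfl⟩ := hQ.exists_conj hP
  refine ⟨d * u * d⁻¹, invol_conj hu d, ?_, conj_mem_normalizer_of_mem huQ⟩
  have hdx : d⁻¹ • x = x := mem_stabilizer_iff.1 (inv_mem hd.1)
  rw [mul_smul, mul_smul, hdx, hux, mem_stabilizer_iff.1 hd.2]

include hH in
/-- Two commuting involutions normalizing a group of odd order fix a point fixed by this group. -/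
theorem exists_fixed_of_pair {P : Subgroup G} (hP : Odd (Nat.card P)) {t s : G} (ht : orderOf t = 2)
    (hs : orderOf s = 2) (hne : t ≠ s) (hc : Commute t s) (htP : t ∈ normalizer (P : Set G))
    (hsP : s ∈ normalizer (P : Set G)) :
    ∃ c : G ⧸ H, c ∈ fixSet P H ∧ t • c = c ∧ s • c = c := by
  obtain ⟨c, hc'⟩ := exists_fixed hH ht
  have hsc : s • c = c :=
    mem_stabilizer_iff.1 (centralizer_le_stabilizer hH ht hc'
      (mem_centralizer_singleton_iff.2 hc.symm.eq))
  refine ⟨c, ?_, hc', hsc⟩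
  set A := closure ({t, s} : Set G) with hA
  have hAK := CfsgLib.Invol.isKleinFour_closure_pair ht hs hne hc
  haveI := hAK
  haveI : IsMulCommutative A := ⟨⟨fun a b => mul_comm_of_exponent_two IsKleinFour.exponent_two a b⟩⟩
  have hAN : A ≤ normalizer (P : Set G) := (closure_le _).2 (by
    rintro x (rfl | rfl)
    exacts [htP, hsP])
  have hcop : (Nat.card A).Coprime (Nat.card P) := by
    rw [IsKleinFour.card_four]
    exact (Nat.coprime_two_left.2 hP).pow_left 2
  refine CfsgLib.Coprime.le_of_centralizers_le IsKleinFour.not_isCyclic hAN hcop fun a ha ha1 => ?_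
  refine inf_le_right.trans (centralizer_le_stabilizer hH ?_ ?_)
  · refine orderOf_eq_prime ?_ ha1
    have h := congrArg Subtype.val (IsKleinFour.mul_self (⟨a, ha⟩ : A))
    simpa [sq] using h
  · have hAc : A ≤ stabilizer G c := by
      rw [hA, closure_le]
      rintro x (rfl | rfl)
      exacts [mem_stabilizer_iff.2 hc', mem_stabilizer_iff.2 hsc]
    exact mem_stabilizer_iff.1 (hAc ha)

end CfsgLib.Bender
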