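import Cfsg.Agent.Lib.Bender.Main
import Cfsg.Agent.Lib.Bender.RankOne

/-!
# Bender: two-transitive or rank one (given the statement on maximal odd transitive subgroups)
-/

set_option autoImplicit false

namespace CfsgLib.Bender

open Subgroup MulAction

universe u

variable {G : Type u} [Group G] [Finite G] {H : Subgroup G}

theorem coset_transitive (hH : Cfsg.IsStronglyEmbedded H) (hA : MaxOddStatement.{u})
    (hpair : HasPair G) {g₁ g₂ : G} (h1 : g₁ ∉ H) (h2 : g₂ ∉ H) :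
    ∃ h ∈ H, g₂⁻¹ * (h * g₁) ∈ H := by
  have hne : ∀ g : G, g ∉ H → ((1 : G) : G ⧸ H) ≠ (g : G ⧸ H) := fun g hg e => hg (by
    simpa using QuotientGroup.eq.1 e)
  obtain ⟨k, hk, hkc⟩ := transitive_of_pair hH hA hpair (hne g₁ h1) (hne g₂ h2)
  refine ⟨k, CfsgLib.Invol.fixed_one_iff.1 (mem_stabilizer_iff.1 hk), ?_⟩
  rw [MulAction.Quotient.smul_mk, smul_eq_mul] at hkc
  exact QuotientGroup.eq.1 hkc.symm

theorem transitive_or_rank_one (hH : Cfsg.IsStronglyEmbedded H) (hA : MaxOddStatement.{u}) :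
    (∀ g₁ g₂ : G, g₁ ∉ H → g₂ ∉ H → ∃ h ∈ H, g₂⁻¹ * (h * g₁) ∈ H) ∨
      ((∀ S : Sylow 2 G, IsCyclic S ∨
        ∃ m : ℕ, 1 ≤ m ∧ Nonempty ((S : Subgroup G) ≃* QuaternionGroup (2 ^ m))) ∧
        Cfsg.oddCore G ⊔ H = ⊤) := by
  by_cases hp : HasPair G
  · exact Or.inl fun g₁ g₂ h1 h2 => coset_transitive hH hA hp h1 h2
  · exact Or.inr ⟨sylow_shape_of_not_pair hp, oddCore_sup_eq_top hH hp⟩

end CfsgLib.Bender
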