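import Cfsg.Agent.Lib.Bender.Good

/-!
# Bender's transitivity theorem: all pairs are full

Hypothesis `GoodPrime r b x`: no involution fixing `b` normalizes a Sylow `r`-subgroup of `G_b` or of
`G_{bx}`. Then a Sylow `r`-subgroup of any two-point stabilizer fixes exactly those two points.
-/

set_option autoImplicit false
set_option linter.style.haveILetI false

namespace CfsgLib.Bender

open Subgroup MulAction
open CfsgLib.Coprime (IsSylowIn conjBy)
open CfsgLib.Invol (fixed_unique invol_conj invol_smul_smul invol_inv invol_mul_self)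

universe u

variable {G : Type u} [Group G] [Finite G] {H : Subgroup G}

/-- No involution fixing `b` normalizes a Sylow `r`-subgroup of `G_b` or of `G_{bx}`. -/
structure GoodPrime (r : ℕ) (b x : G ⧸ H) : Prop where
  stab : ∀ (v : G) (R : Subgroup G), orderOf v = 2 → v • b = b →
    IsSylowIn r R (stabilizer G b) → v ∉ normalizer (R : Set G)
  pair : ∀ (v : G) (Q : Subgroup G), orderOf v = 2 → v • b = b →
    IsSylowIn r Q (pairStab b x) → v ∉ normalizer (Q : Set G)

theorem card_stabilizer_eq (a b : G ⧸ H) :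
    Nat.card (stabilizer G a) = Nat.card (stabilizer G b) := by
  obtain ⟨g, rfl⟩ := MulAction.exists_smul_eq G a b
  rw [stabilizer_smul_eq_stabilizer_map_conj]
  exact (card_map_of_injective (MulAut.conj g).injective).symm

theorem GoodPrime.stab' {r : ℕ} {b x : G ⧸ H} (h : GoodPrime r b x) {c : G ⧸ H} {v : G}
    {R : Subgroup G} (hv : orderOf v = 2) (hvc : v • c = c) (hRc : R ≤ stabilizer G c)
    (hR : Nat.card R = r ^ (Nat.card (stabilizer G c)).factorization r) :
    v ∉ normalizer (R : Set G) := by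
  obtain ⟨g, hg⟩ := MulAction.exists_smul_eq G c b
  intro hvR
  refine h.stab (g * v * g⁻¹) (conjBy g R) (invol_conj hv g) ?_ ⟨?_, ?_⟩
    (conj_mem_normalizer_of_mem hvR)
  · rw [← hg, CfsgLib.Invol.conj_fixes, hvc]
  · rw [← hg]; exact conjBy_le_stabilizer g hRc
  · rw [CfsgLib.Coprime.card_conjBy, hR, card_stabilizer_eq c b]

variable {r : ℕ} [hr : Fact r.Prime] (hH : Cfsg.IsStronglyEmbedded H)
variable {b x : G ⧸ H}

include hH hr in
theorem GoodPrime.not_dvd (h : GoodPrime r b x) (hr2 : r ≠ 2) : ¬ r ∣ Nat.card (G ⧸ H) := by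
  obtain ⟨R, hR, -⟩ := exists_sylowIn_ge (K := stabilizer G b) (P := ⊥) (IsPGroup.of_bot (p := r)) bot_le
  refine not_dvd_points hH hr2 hR fun v hv hvR a ha hva => h.stab' hv hva ha ?_ hvR
  rw [hR.2, card_stabilizer_eq b a]

include hr in
theorem sylowIn_stab_of_two {Q : Subgroup G} {a c : G ⧸ H}
    (hQ : IsSylowIn r Q (pairStab a c)) (hac : a ≠ c)
    (htwo : ∀ z ∈ fixSet Q H, z = a ∨ z = c) : IsSylowIn r Q (stabilizer G a) := by
  refine sylowIn_of_normalizer ⟨le_inf le_normalizer (hQ.1.trans inf_le_left), ?_⟩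
  refine le_antisymm (isPGroup_card_le hQ.isPGroup (le_inf le_normalizer (hQ.1.trans inf_le_left))) ?_
  rw [hQ.2]
  refine Nat.pow_le_pow_right hr.out.pos ?_
  refine (Nat.factorization_le_iff_dvd Nat.card_pos.ne' Nat.card_pos.ne').2 (card_dvd_of_le ?_) r
  rintro g ⟨hgN, hga⟩
  refine ⟨hga, mem_stabilizer_iff.2 ?_⟩
  rcases htwo (g • c) (smul_mem_fixSet hgN (hQ.1.trans inf_le_right)) with h | h
  · exact absurd (smul_left_cancel g (h.trans (mem_stabilizer_iff.1 hga).symm)) hac.symm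
  · exact h

include hH hr in
/-- One pair is full. -/
theorem GoodPrime.exists_full (h : GoodPrime r b x) (hr2 : r ≠ 2) (hbx : b ≠ x) :
    ∃ (a c : G ⧸ H) (Q : Subgroup G), a ≠ c ∧ IsSylowIn r Q (stabilizer G a) ∧
      Q ≤ stabilizer G c := by
  obtain ⟨v, hv, hvb⟩ := CfsgLib.Invol.exists_invol_fixing hH b
  have hne : x ≠ v • x := fun e => hbx (fixed_unique hH hv hvb e.symm)
  obtain ⟨Q, hQ, -, hvQ, hQi⟩ := exists_pair_sylow hH (r := r) hne hv rfl IsPGroup.of_bot bot_le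
    (by rw [normalizer_eq_top]; exact mem_top v)
  have hfree : ∀ z ∈ fixSet Q H, v • z ≠ z := by
    intro z hz hvz
    obtain rfl := fixed_unique hH hv hvz hvb
    refine h.pair v Q hv hvb ⟨le_inf hz (hQ.1.trans inf_le_left), ?_⟩ hvQ
    rw [hQ.2]
    exact (rPart_pairStab_eq (r := r) hH hbx hv hvb).symm
  have hgood : Good r H Q v := ⟨hQ.isPGroup, hv, hvQ, hfree, hQi.ge⟩
  refine ⟨x, v • x, Q, hne, sylowIn_stab_of_two hQ hne fun z hz => ?_, hQ.1.trans inf_le_right⟩
  by_contra hcon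
  push Not at hcon
  exact good_two hH hr2 (h.not_dvd hH hr2) hgood hz (hQ.1.trans inf_le_left)
    (hQ.1.trans inf_le_right) hcon.1 hcon.2 hne

include hH hr in
/-- Every `r`-group with a fixed point has a second one. -/
theorem GoodPrime.two_fixed (h : GoodPrime r b x) (hr2 : r ≠ 2) (hbx : b ≠ x) {P : Subgroup G}
    (hP : IsPGroup r P) {a : G ⧸ H} (ha : a ∈ fixSet P H) : ∃ z ∈ fixSet P H, z ≠ a := by
  obtain ⟨a₁, c₁, Q, hne, hQ, hQc⟩ := h.exists_full hH hr2 hbx
  obtain ⟨g₀, hg₀⟩ := MulAction.exists_smul_eq G a a₁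
  obtain ⟨k, hk, hkQ⟩ := exists_conjBy_le (Q := conjBy g₀ P) (hP.map _)
    (hg₀ ▸ conjBy_le_stabilizer g₀ ha) hQ
  rw [CfsgLib.Coprime.conjBy_conjBy] at hkQ
  refine ⟨(k * g₀)⁻¹ • c₁, fun y hy => ?_, fun e => hne ?_⟩
  · have h1 : (k * g₀ * y * (k * g₀)⁻¹) • c₁ = c₁ := mem_stabilizer_iff.1 (hQc (hkQ ⟨y, hy, rfl⟩))
    rw [mem_stabilizer_iff]
    calc y • (k * g₀)⁻¹ • c₁ = (k * g₀)⁻¹ • ((k * g₀ * y * (k * g₀)⁻¹) • c₁) := by
          simp [smul_smul, mul_assoc]
      _ = _ := by rw [h1]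
  · rw [inv_smul_eq_iff] at e
    rw [e, mul_smul, hg₀, mem_stabilizer_iff.1 hk]

include hH hr in
/-- A Sylow subgroup of a point stabilizer fixes at most two points. -/
theorem GoodPrime.sylow_two (h : GoodPrime r b x) (hr2 : r ≠ 2) (hbx : b ≠ x) {R : Subgroup G}
    {a : G ⧸ H} (hR : IsSylowIn r R (stabilizer G a)) {y z : G ⧸ H} (hy : y ∈ fixSet R H)
    (hz : z ∈ fixSet R H) (hay : a ≠ y) (haz : a ≠ z) (hyz : y ≠ z) : False := by
  obtain ⟨a₁, c₁, Q, hne, hQ, hQc⟩ := h.exists_full hH hr2 hbx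
  -- `Q` is the invariant Sylow subgroup of its pair
  obtain ⟨v, hv, hvx, hvQ⟩ := exists_swapper_normalizing hH hne
    (⟨le_inf hQ.1 hQc, le_antisymm (isPGroup_card_le hQ.isPGroup (le_inf hQ.1 hQc))
      (le_of_le_of_eq (Nat.pow_le_pow_right hr.out.pos ((Nat.factorization_le_iff_dvd
        Nat.card_pos.ne' Nat.card_pos.ne').2 (card_dvd_of_le inf_le_left) r)) hQ.2.symm)⟩ :
      IsSylowIn r Q (pairStab a₁ c₁))
  have hfree : ∀ w ∈ fixSet Q H, v • w ≠ w := fun w hw hvw =>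
    h.stab' hv hvw hw (by rw [hQ.2, card_stabilizer_eq a₁ w]) hvQ
  have hfull : rPart r (numInv H) ≤ (centralizer ({v} : Set G)).relIndex Q := by
    obtain ⟨Q', hQ', hQQ', -, hQi'⟩ := exists_pair_sylow hH (r := r) hne hv hvx hQ.isPGroup
      (le_inf hQ.1 hQc) hvQ
    rw [sylowIn_eq_of_le hQ hQ'.isPGroup (hQ'.1.trans inf_le_left) hQQ', hQi']
  -- move `R` onto `Q`
  obtain ⟨g, hg⟩ := MulAction.exists_smul_eq G a a₁
  obtain ⟨k, hk, hkQ⟩ := exists_conjBy_le (Q := conjBy g R) (hR.isPGroup.map _)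
    (hg ▸ conjBy_le_stabilizer g hR.1) hQ
  rw [CfsgLib.Coprime.conjBy_conjBy] at hkQ
  have hQR : conjBy (k * g) R = Q := eq_of_le_of_card_ge hkQ (by
    rw [CfsgLib.Coprime.card_conjBy, hR.2, hQ.2, card_stabilizer_eq a a₁])
  have hmove : ∀ w ∈ fixSet R H, (k * g) • w ∈ fixSet Q H := fun w hw =>
    hQR ▸ conjBy_le_stabilizer (k * g) hw
  exact good_two hH hr2 (h.not_dvd hH hr2) ⟨hQ.isPGroup, hv, hvQ, hfree, hfull⟩
    (hmove a hR.1) (hmove y hy) (hmove z hz) (fun e => hay (smul_left_cancel _ e))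
    (fun e => haz (smul_left_cancel _ e)) (fun e => hyz (smul_left_cancel _ e))

include hH hr in
/-- There are no bad subgroups. -/
theorem GoodPrime.no_bad (h : GoodPrime r b x) (hr2 : r ≠ 2) (hbx : b ≠ x) {P : Subgroup G}
    {u : G} (hP : IsPGroup r P) (hu : orderOf u = 2) (huP : u ∈ normalizer (P : Set G))
    (hfull : rPart r (numInv H) ≤ (centralizer ({u} : Set G)).relIndex P)
    {c y : G ⧸ H} (hcy : c ≠ y) (hc : c ∈ fixSet P H) (hy : y ∈ fixSet P H) (huc : u • c = c) :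
    False := by
  induction hk : Nat.card G - Nat.card P using Nat.strong_induction_on generalizing P y with
  | _ k ih =>
  subst hk
  have hyu : y ≠ u • y := fun e => hcy (fixed_unique hH hu huc e.symm)
  obtain ⟨Q, hQ, hPQ, huQ, hQi⟩ := exists_pair_sylow hH (r := r) hyu hu rfl hP
    (le_inf hy (smul_mem_fixSet huP hy)) huP
  have hQc : c ∈ fixSet Q H := by
    refine inf_eq_left.1 (eq_of_relIndex_le (P := P) (le_inf hPQ hc) inf_le_left
      (le_inf inf_le_right (inf_le_left.trans (centralizer_le_stabilizer hH hu huc))) ?_)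
    rw [hQi]; exact hfull
  have hcardG : ∀ K : Subgroup G, P ≤ K → ¬ K ≤ P →
      Nat.card G - Nat.card K < Nat.card G - Nat.card P := fun K hPK hKP => by
    have h1 := Subgroup.card_le_card_group K
    have h2 : Nat.card P < Nat.card K := lt_of_le_of_ne (card_le_of_le hPK) fun e =>
      hKP (eq_of_le_of_card_ge hPK e.ge).ge
    omega
  by_cases hQP : ¬ Q ≤ P
  · exact ih _ (hcardG Q hPQ hQP) hQ.isPGroup huQ (hfull.trans (relIndex_le_of_le hPQ)) hcy hQc
      (hQ.1.trans inf_le_left) rfl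
  push Not at hQP
  obtain rfl : Q = P := le_antisymm hQP hPQ
  have hPD : IsSylowIn r Q (pairStab c y) := by
    refine ⟨le_inf hc hy, ?_⟩
    rw [hQ.2]
    exact (rPart_pairStab_eq (r := r) hH hcy hu huc).symm
  have hnsyl : ¬ IsSylowIn r Q (stabilizer G c) := fun hS =>
    h.sylow_two hH hr2 hbx hS hy (hQ.1.trans inf_le_right) hcy
      (fun e => hcy (fixed_unique hH hu huc (by
        conv_rhs => rw [← invol_smul_smul hu y, ← e, huc, e]) )) hyu
  obtain ⟨w, hw, hwc, hwP⟩ := exists_swapper_normalizing hH hcy hPD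
  set L := normalizer (Q : Set G) with hL
  set C := centralizer ({u} : Set G) with hC
  set Lc := L ⊓ stabilizer G c with hLc
  set Lcy := L ⊓ pairStab c y with hLcy
  let p : G → Prop := fun v => orderOf v = 2 ∧ v ∈ L ∧ v • c = c
  have hcl : ∀ d ∈ Lc, p (d * u * d⁻¹) := fun d hd => by
    refine ⟨invol_conj hu d, mul_mem (mul_mem hd.1 huP) (inv_mem hd.1), ?_⟩
    rw [mul_smul, mul_smul, mem_stabilizer_iff.1 (inv_mem hd.2), huc, mem_stabilizer_iff.1 hd.2]
  have htr : ∀ v, p v → ∃ d ∈ Lcy, d * u * d⁻¹ = v := fun v hv => by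
    obtain ⟨d, hdL, hdc, hdy, he⟩ := transitive_fixing hH L hwP (by rw [hwc]; exact hcy.symm) hu huP
      huc hv.1 hv.2.1 hv.2.2
    rw [hwc] at hdy
    exact ⟨d, ⟨hdL, mem_stabilizer_iff.2 hdc, mem_stabilizer_iff.2 hdy⟩, he⟩
  have hle : Lcy ≤ Lc := inf_le_inf_left _ inf_le_left
  have hidx : C.relIndex Lc = C.relIndex Lcy :=
    (relIndex_eq_card (p := p) ⟨hu, huP, huc⟩ hcl fun v hv => by
      obtain ⟨d, hd, he⟩ := htr v hv
      exact ⟨d, hle hd, he⟩).trans
    (relIndex_eq_card (p := p) ⟨hu, huP, huc⟩ (fun d hd => hcl d (hle hd)) htr).symm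
  have hQcard : Nat.card Q = rPart r (Nat.card Lcy) := by
    refine le_antisymm (isPGroup_card_le hP (le_inf le_normalizer (le_inf hc hy))) ?_
    rw [hPD.2]
    exact Nat.pow_le_pow_right hr.out.pos ((Nat.factorization_le_iff_dvd Nat.card_pos.ne'
      Nat.card_pos.ne').2 (card_dvd_of_le inf_le_right) r)
  have hlt : rPart r (Nat.card ↥(C ⊓ Lcy)) < rPart r (Nat.card ↥(C ⊓ Lc)) := by
    by_contra hge
    push Not at hge
    refine hnsyl (sylowIn_of_normalizer ⟨le_inf le_normalizer hc, ?_⟩)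
    refine le_antisymm (isPGroup_card_le hP (le_inf le_normalizer hc)) ?_
    change rPart r (Nat.card Lc) ≤ _
    rw [hQcard, rPart_card_eq r C Lc, rPart_card_eq r C Lcy, hidx]
    exact Nat.mul_le_mul_left _ hge
  obtain ⟨C', hC', -⟩ := exists_sylowIn_ge (K := C ⊓ Lc) (P := ⊥) (IsPGroup.of_bot (p := r)) bot_le
  have hC'P : ¬ C' ≤ Q := fun hle' => by
    refine hlt.not_ge ?_
    change r ^ (Nat.card ↥(C ⊓ Lc)).factorization r ≤ _
    rw [← hC'.2]
    exact isPGroup_card_le hC'.isPGroup (le_inf (hC'.1.trans inf_le_left)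
      (hle'.trans (le_inf le_normalizer (le_inf hc hy))))
  set P' := Q ⊔ C' with hP'
  have hP'p : IsPGroup r P' :=
    hP.to_sup_of_normal_left' hC'.isPGroup (hC'.1.trans (inf_le_right.trans inf_le_left))
  have hP'c : c ∈ fixSet P' H := sup_le hc (hC'.1.trans (inf_le_right.trans inf_le_right))
  have huP' : u ∈ normalizer (P' : Set G) := by
    refine CfsgLib.Coprime.sup_le_normalizer (A := zpowers u) (zpowers_le.2 huP) ?_ (mem_zpowers u)
    refine zpowers_le.2 (centralizer_le_normalizer _ (mem_centralizer_iff.2 fun z hz => ?_))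
    exact mem_centralizer_singleton_iff.1 (hC'.1 hz).1
  obtain ⟨z, hz, hzc⟩ := h.two_fixed hH hr2 hbx hP'p hP'c
  exact ih _ (hcardG P' le_sup_left fun e => hC'P (le_sup_right.trans e)) hP'p huP'
    (hfull.trans (relIndex_le_of_le le_sup_left)) hzc.symm hP'c hz rfl

include hH hr in
/-- A Sylow subgroup of a pair is a Sylow subgroup of the point and fixes only the pair. -/
theorem GoodPrime.pair_full (h : GoodPrime r b x) (hr2 : r ≠ 2) (hbx : b ≠ x) {a c : G ⧸ H}
    (hac : a ≠ c) {Q : Subgroup G} (hQ : IsSylowIn r Q (pairStab a c)) :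
    IsSylowIn r Q (stabilizer G a) ∧ ∀ z ∈ fixSet Q H, z = a ∨ z = c := by
  obtain ⟨v, hv, hva, hvQ⟩ := exists_swapper_normalizing hH hac hQ
  have hfull : rPart r (numInv H) ≤ (centralizer ({v} : Set G)).relIndex Q := by
    rw [rPart_relIndex_eq hv (odd_pairStab hH hac) (mem_normalizer_pairStab hv hva) hQ hvQ,
      relIndex_swap hH hac hv hva]
  have hfree : ∀ w ∈ fixSet Q H, v • w ≠ w := fun w hw hvw => by
    have hwa : w ≠ a := fun e => hac (by rw [← hva, ← e, hvw, e])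
    exact h.no_bad hH hr2 hbx hQ.isPGroup hv hvQ hfull hwa hw (hQ.1.trans inf_le_left) hvw
  have htwo : ∀ z ∈ fixSet Q H, z = a ∨ z = c := fun z hz => by
    by_contra hcon
    push Not at hcon
    exact good_two hH hr2 (h.not_dvd hH hr2) ⟨hQ.isPGroup, hv, hvQ, hfree, hfull⟩ hz
      (hQ.1.trans inf_le_left) (hQ.1.trans inf_le_right) hcon.1 hcon.2 hac
  exact ⟨sylowIn_stab_of_two hQ hac htwo, htwo⟩

include hH hr in
/-- Transitivity on the other points. -/
theorem GoodPrime.transitive (h : GoodPrime r b x) (hr2 : r ≠ 2) (hbx : b ≠ x) {a c d : G ⧸ H}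
    (hac : a ≠ c) (had : a ≠ d) : ∃ k ∈ stabilizer G a, k • c = d := by
  obtain ⟨Q, hQ, -⟩ := exists_sylowIn_ge (K := pairStab a c) (P := ⊥) (IsPGroup.of_bot (p := r)) bot_le
  obtain ⟨R, hR, -⟩ := exists_sylowIn_ge (K := pairStab a d) (P := ⊥) (IsPGroup.of_bot (p := r)) bot_le
  obtain ⟨hQs, -⟩ := h.pair_full hH hr2 hbx hac hQ
  obtain ⟨hRs, hR2⟩ := h.pair_full hH hr2 hbx had hR
  obtain ⟨k, hk, hkR⟩ := hQs.exists_conj hRs
  refine ⟨k, hk, ?_⟩
  have hc' : k • c ∈ fixSet R H := hkR ▸ conjBy_le_stabilizer k (hQ.1.trans inf_le_right)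
  rcases hR2 _ hc' with e | e
  · exact absurd (smul_left_cancel k (e.trans (mem_stabilizer_iff.1 hk).symm)) hac.symm
  · exact e

end CfsgLib.Bender
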